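import Groth.Agent.H18.VA.CoordsExt
import Groth.Agent.H18.STL.AmpleBasis

/-!
# Coordinate families extending functions on an affine `X_b`, for an ample invertible module (helper20)
-/

set_option autoImplicit false
set_option linter.style.haveILetI false
universe u

open CategoryTheory CategoryTheory.Limits AlgebraicGeometry TopologicalSpace Opposite

namespace Groth.Agent.H20.Birat

open Groth.Agent.H18 Groth.Agent.H18.PUP Groth.Agent.H18.STL Groth.Agent.H18.VA

variable {X : Scheme.{u}}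

/-- an invertible module has bases on the members of a cover by affine opens -/
theorem exists_affine_cover_with_basis {L : X.Modules} (hL : PicF.IsInvertible L) :
    ∃ (𝔘 : Cover X) (e : ∀ i, Γ(L, 𝔘.W i)), (∀ i, IsAffineOpen (𝔘.W i)) ∧
      ∀ i, IsBasisOn L (𝔘.W i) (e i) := by
  choose U t hxU ht using exists_basis_of_isInvertible hL
  have hV : ∀ x : X, ∃ V : X.Opens, IsAffineOpen V ∧ x ∈ V ∧ V ≤ U x := fun x =>
    Opens.isBasis_iff_nbhd.1 X.isBasis_affineOpens (hxU x)
  choose V hVaff hxV hVU using hV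
  exact ⟨⟨X, V, fun x => ⟨x, hxV x⟩⟩, fun x => mres L (hVU x) (t x), hVaff,
    fun x => (ht x).mono (hVU x)⟩

/-- **Extension in coordinates**: for `M` ample and a point `x₀`, there are a cover by affine opens, an
affine neighbourhood `V₀ = D(B)` of `x₀` inside a member `W i₀`, such that finitely many functions on `V₀`
become, after multiplication by a common power of `B`, the `i₀`-components of coordinate families with a
common cocycle. -/
theorem exists_coordFams_of_isAmple {M : X.Modules} (hM : CohB1.IsAmple M) (x₀ : X) :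
    ∃ (𝔘 : Cover X) (_ : ∀ i, IsAffineOpen (𝔘.W i)) (i₀ : 𝔘.ι) (V₀ : X.Opens) (hV₀ : V₀ ≤ 𝔘.W i₀)
      (_ : IsAffineOpen V₀) (_ : x₀ ∈ V₀) (B : Γ(X, 𝔘.W i₀)), V₀ = X.basicOpen B ∧
      ∀ {m : ℕ} (y : Fin m → Γ(X, V₀)), ∃ (C : 𝔘.Cocycle) (n : ℕ) (r : Fin m → ∀ i, Γ(X, 𝔘.W i)),
        (∀ l, IsCoordFam C (r l)) ∧ ∀ l, rres X hV₀ (r l i₀) = y l * rres X hV₀ B ^ n := by
  haveI : CompactSpace X := hM.2.1
  haveI : QuasiSeparatedSpace X := quasiSeparatedSpace_of_cover hM.1 hM.2.2
  obtain ⟨𝔘, e, haff, hβ⟩ := exists_affine_cover_with_basis hM.1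
  have hc := hasCocycle_cocycleOf 𝔘 hβ
  obtain ⟨i₀, hx₀⟩ := 𝔘.cov x₀
  obtain ⟨k, b, hxb, hble, hbaff⟩ := exists_genLocus_nhd_of_isAmple hM (𝔘.W i₀) x₀ hx₀
  refine ⟨𝔘, haff, i₀, CohB1.genLocus _ b, hble, hbaff, hxb, (hc.lpow (k + 1)).coords b i₀, ?_, ?_⟩
  · rw [← (hc.lpow (k + 1)).genLocus_inf b i₀]
    exact (inf_eq_left.mpr hble).symm
  · intro m y
    choose N hN using fun l => exists_coords_extension hc (k + 1) b i₀ hble (y l)
    choose r hr1 hr2 using fun l => hN l (Finset.univ.sup N) (Finset.le_sup (Finset.mem_univ l))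
    exact ⟨_, _, r, hr1, hr2⟩

end Groth.Agent.H20.Birat
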