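import Mathlib
import Groth.Prelude

/-!
# A morphism of integral schemes which is an isomorphism over a nonempty open is generically an isomorphism
(helper20)
-/

set_option autoImplicit false
set_option backward.isDefEq.respectTransparency false
set_option linter.style.haveILetI false
universe u

open CategoryTheory AlgebraicGeometry TopologicalSpace Opposite

namespace Groth.Agent.H20.Birat

variable {X' X : Scheme.{u}} [IsIntegral X'] [IsIntegral X] (f : X' ⟶ X) (U : X.Opens)
  (hU : (U : Set X).Nonempty) [IsIso (f ∣_ U)]

include hU in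
theorem genericPoint_mem_preimage_of_isIso_restrict (O : X.Opens) (hO : (O : Set X).Nonempty) :
    genericPoint X' ∈ f ⁻¹ᵁ O := by
  obtain ⟨v, hvO, hvU⟩ := nonempty_preirreducible_inter O.2 U.2 hO hU
  let x' : ↥(f ⁻¹ᵁ U) := (inv (f ∣_ U)) ⟨v, hvU⟩
  have h1 : (f ∣_ U) x' = ⟨v, hvU⟩ := by
    change ((inv (f ∣_ U)) ≫ (f ∣_ U)) ⟨v, hvU⟩ = _
    rw [IsIso.inv_hom_id]
    rfl
  have h2 : f x'.1 = v := by
    rw [← morphismRestrict_base_coe, h1]
  refine ((genericPoint_spec X').mem_open_set_iff (f ⁻¹ᵁ O).2).mpr ⟨x'.1, trivial, ?_⟩
  change f x'.1 ∈ O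
  rw [h2]
  exact hvO

include hU in
theorem map_genericPoint_of_isIso_restrict : f (genericPoint X') = genericPoint X := by
  have h : IsGenericPoint (f (genericPoint X')) (Set.univ : Set X) := by
    rw [isGenericPoint_iff_forall_closed isClosed_univ trivial]
    intro Z hZ hmem
    by_contra hne
    have hne' : (Zᶜ : Set X).Nonempty := by
      rw [Set.nonempty_compl]
      intro he
      exact hne (he ▸ le_rfl)
    have := genericPoint_mem_preimage_of_isIso_restrict f U hU ⟨Zᶜ, hZ.isOpen_compl⟩ hne'
    exact this hmem
  exact h.eq (genericPoint_spec X)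

include hU in
theorem residueFieldMap_surjective_of_isIso_restrict :
    Function.Surjective (f.residueFieldMap (genericPoint X')).hom := by
  have hmem : genericPoint X' ∈ f ⁻¹ᵁ U := genericPoint_mem_preimage_of_isIso_restrict f U hU U hU
  have h1 : IsIso (f.stalkMap (genericPoint X')) := by
    have h2 : IsIso ((f ∣_ U).stalkMap ⟨genericPoint X', hmem⟩) := inferInstance
    exact ((MorphismProperty.isomorphisms CommRingCat).arrow_mk_iso_iff
      (morphismRestrictStalkMap f U ⟨genericPoint X', hmem⟩)).mp h2
  have h3 : Function.Surjective (f.stalkMap (genericPoint X')).hom :=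
    (ConcreteCategory.bijective_of_isIso _).2
  have h4 := Scheme.residue_residueFieldMap f (genericPoint X')
  have h5 : Function.Surjective (X.residue (f (genericPoint X')) ≫
      f.residueFieldMap (genericPoint X')).hom := by
    rw [h4, CommRingCat.hom_comp]
    exact (X'.residue_surjective _).comp h3
  rw [CommRingCat.hom_comp, RingHom.coe_comp] at h5
  exact Function.Surjective.of_comp h5

end Groth.Agent.H20.Birat
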