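import Mathlib
import Groth.Prelude

/-!
# An ideal sheaf with prescribed generators on finitely many affine opens (helper20)

Given finitely many affine opens `W i` and sections `r l i ∈ Γ(X, W i)` which, on the overlaps, differ by
a common factor (`r l i = r l j * C i j` on `W i ⊓ W j`), there is a quasi-coherent ideal sheaf whose ideal
on each `W i` is generated by the `r l i`.
-/

set_option autoImplicit false
set_option backward.isDefEq.respectTransparency false
set_option linter.style.haveILetI false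
universe u

open CategoryTheory AlgebraicGeometry TopologicalSpace Opposite

namespace Groth.Agent.H20.Birat

variable {X : Scheme.{u}}

section spec

variable {U : X.Opens} (hU : IsAffineOpen U) {R : CommRingCat.{u}} (φ : Γ(X, U) ⟶ R)

theorem preimage_fromSpec_comp_eq_top : (Spec.map φ ≫ hU.fromSpec) ⁻¹ᵁ U = ⊤ := by
  rw [Scheme.Hom.comp_preimage, hU.fromSpec_preimage_self]
  rfl

theorem appLE_top_fromSpec_comp :
    (Spec.map φ ≫ hU.fromSpec).appLE U ⊤ (preimage_fromSpec_comp_eq_top hU φ).ge =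
      φ ≫ (Scheme.ΓSpecIso R).inv := by
  have h1 : hU.fromSpec.appLE U ⊤ hU.fromSpec_preimage_self.ge = (Scheme.ΓSpecIso Γ(X, U)).inv := by
    rw [Scheme.Hom.appLE, hU.fromSpec_app_self, Category.assoc, ← Functor.map_comp]
    exact (congrArg (fun m => (Scheme.ΓSpecIso Γ(X, U)).inv ≫ m)
      ((Spec Γ(X, U)).presheaf.map_id _)).trans (Category.comp_id _)
  have h2 := Scheme.Hom.appLE_comp_appLE (Spec.map φ) hU.fromSpec U ⊤ ⊤
    hU.fromSpec_preimage_self.ge le_top
  rw [← h2, h1, Scheme.ΓSpecIso_inv_naturality]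
  rfl

theorem app_fromSpec_comp_eq_zero_iff (a : Γ(X, U)) :
    ((Spec.map φ ≫ hU.fromSpec).app U).hom a = 0 ↔ φ.hom a = 0 := by
  have h1 : (Spec.map φ ≫ hU.fromSpec).appLE U ⊤ (preimage_fromSpec_comp_eq_top hU φ).ge =
      (Spec.map φ ≫ hU.fromSpec).app U ≫ (Spec R).presheaf.map
        (eqToHom (preimage_fromSpec_comp_eq_top hU φ).symm).op := rfl
  have h2 := congr($(h1.symm.trans (appLE_top_fromSpec_comp hU φ)) a)
  rw [CommRingCat.comp_apply, CommRingCat.comp_apply] at h2
  have hinj1 : Function.Injective ((Spec R).presheaf.map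
      (eqToHom (preimage_fromSpec_comp_eq_top hU φ).symm).op).hom :=
    (ConcreteCategory.bijective_of_isIso _).1
  have hinj2 : Function.Injective (Scheme.ΓSpecIso R).inv.hom :=
    (ConcreteCategory.bijective_of_isIso _).1
  constructor
  · intro h
    apply hinj2
    rw [map_zero]
    refine h2.symm.trans ?_
    change ((Spec R).presheaf.map _).hom (((Spec.map φ ≫ hU.fromSpec).app U).hom a) = 0
    rw [h, map_zero]
  · intro h
    apply hinj1
    rw [map_zero]
    refine h2.trans ?_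
    change (Scheme.ΓSpecIso R).inv.hom (φ.hom a) = 0
    rw [h, map_zero]

end spec

section glue

variable [QuasiSeparatedSpace X] {ι : Type*} (W : ι → X.Opens) (hW : ∀ i, IsAffineOpen (W i))
  {m : Type*} (r : m → ∀ i, Γ(X, W i)) (C : ∀ i j, Γ(X, W i ⊓ W j))

/-- the closed subscheme of `W i` cut out by the `r l i`, mapped to `X` -/
noncomputable def zmap (i : ι) :
    Spec (CommRingCat.of (Γ(X, W i) ⧸ Ideal.span (Set.range fun l => r l i))) ⟶ X :=
  Spec.map (CommRingCat.ofHom (Ideal.Quotient.mk (Ideal.span (Set.range fun l => r l i)))) ≫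
    (hW i).fromSpec

omit [QuasiSeparatedSpace X] in
theorem zmap_app_self_eq_zero_iff (i : ι) (a : Γ(X, W i)) :
    ((zmap W hW r i).app (W i)).hom a = 0 ↔ a ∈ Ideal.span (Set.range fun l => r l i) := by
  unfold zmap
  rw [app_fromSpec_comp_eq_zero_iff]
  exact Ideal.Quotient.eq_zero_iff_mem

omit [QuasiSeparatedSpace X] in
theorem zmap_preimage_self (i : ι) : (zmap W hW r i) ⁻¹ᵁ (W i) = ⊤ :=
  preimage_fromSpec_comp_eq_top (hW i) _

omit [QuasiSeparatedSpace X] in
theorem zmap_appLE_eq_zero (i : ι) (l : m) (O : (Spec (CommRingCat.of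
    (Γ(X, W i) ⧸ Ideal.span (Set.range fun l => r l i)))).Opens)
    (e : O ≤ (zmap W hW r i) ⁻¹ᵁ (W i)) :
    ((zmap W hW r i).appLE (W i) O e).hom (r l i) = 0 := by
  have h1 := Scheme.Hom.appLE_map (zmap W hW r i) (U := W i) (V := (zmap W hW r i) ⁻¹ᵁ (W i))
    le_rfl (homOfLE e).op
  have h2 := congr($h1 (r l i))
  rw [CommRingCat.comp_apply] at h2
  refine h2.symm.trans ?_
  have h3 : ((zmap W hW r i).appLE (W i) ((zmap W hW r i) ⁻¹ᵁ (W i)) le_rfl).hom (r l i) = 0 := by
    rw [Scheme.Hom.appLE_eq_app, zmap_app_self_eq_zero_iff]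
    exact Ideal.subset_span ⟨l, rfl⟩
  rw [h3, map_zero]

variable (hr : ∀ l i j, (X.presheaf.map (homOfLE (inf_le_left : W i ⊓ W j ≤ W i)).op).hom (r l i) =
    (X.presheaf.map (homOfLE (inf_le_right : W i ⊓ W j ≤ W j)).op).hom (r l j) * C i j)

include hr in
omit [QuasiSeparatedSpace X] in
theorem zmap_app_eq_zero (i j : ι) (l : m) :
    ((zmap W hW r i).app (W j)).hom (r l j) = 0 := by
  set f := zmap W hW r i with hf
  have e1 : f ⁻¹ᵁ (W j) ≤ f ⁻¹ᵁ (W j ⊓ W i) := by
    intro x hx
    refine ⟨hx, ?_⟩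
    have : x ∈ f ⁻¹ᵁ (W i) := by rw [hf, zmap_preimage_self]; trivial
    exact this
  have h1 := Scheme.Hom.map_appLE f (U := W j ⊓ W i) (V := f ⁻¹ᵁ (W j)) e1
    (homOfLE (inf_le_left : W j ⊓ W i ≤ W j)).op
  have h2 := congr($h1 (r l j))
  rw [CommRingCat.comp_apply] at h2
  rw [Scheme.Hom.app_eq_appLE]
  refine h2.symm.trans ?_
  rw [hr l j i, map_mul]
  have h3 := Scheme.Hom.map_appLE f (U := W j ⊓ W i) (V := f ⁻¹ᵁ (W j)) e1
    (homOfLE (inf_le_right : W j ⊓ W i ≤ W i)).op
  have h4 := congr($h3 (r l i))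
  rw [CommRingCat.comp_apply] at h4
  rw [h4, zmap_appLE_eq_zero, zero_mul]

include hr in
/-- **Gluing**: an ideal sheaf with the prescribed generators on each `W i`. -/
theorem exists_idealSheaf_span [Finite ι] :
    ∃ I : X.IdealSheafData, ∀ i, I.ideal ⟨W i, hW i⟩ = Ideal.span (Set.range fun l => r l i) := by
  refine ⟨⨅ i, (zmap W hW r i).ker, fun j => ?_⟩
  rw [Scheme.IdealSheafData.ideal_iInf, iInf_apply]
  apply le_antisymm
  · refine (iInf_le _ j).trans ?_
    intro a ha
    rw [Scheme.Hom.ker_apply, RingHom.mem_ker] at ha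
    exact (zmap_app_self_eq_zero_iff W hW r j a).mp ha
  · refine le_iInf fun i => ?_
    rw [Ideal.span_le]
    rintro _ ⟨l, rfl⟩
    change r l j ∈ (zmap W hW r i).ker.ideal ⟨W j, hW j⟩
    rw [Scheme.Hom.ker_apply, RingHom.mem_ker]
    exact zmap_app_eq_zero W hW r C hr i j l

end glue

end Groth.Agent.H20.Birat
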