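import Groth.Agent.H20.Birat.Final
import Groth.Agent.H20.Birat.GlueIdeal
import Groth.Agent.H20.Birat.AmpleCoords
import Groth.Agent.H20.Birat.Birational

/-!
# A projective birational morphism to an integral scheme with an ample invertible module is a blow-up
(helper20)
-/

set_option autoImplicit false
set_option backward.isDefEq.respectTransparency false
set_option linter.style.haveILetI false
universe u

open CategoryTheory CategoryTheory.Limits AlgebraicGeometry TopologicalSpace Opposite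

namespace Groth.Agent.H20.Birat

open Groth.Agent.H20.RelProj Groth.Agent.H18 Groth.Agent.H18.PUP Groth.Agent.H18.STL
  Groth.Agent.H18.VA

section res

variable {Z : Scheme.{u}} {K : CommRingCat.{u}} [IsLocalRing K] (t : Spec K ⟶ Z)

theorem evAt_rres {D₁ D₂ : Z.Opens} (hle : D₁ ≤ D₂) (h : t (IsLocalRing.closedPoint K) ∈ D₁)
    (a : Γ(Z, D₂)) :
    (evAt t D₁ h).hom (rres Z hle a) = (evAt t D₂ (hle h)).hom a :=
  congr($(evAt_res t hle h) a)

end res

theorem projective_birational_isBlowUp {X' X : Scheme.{u}} [IsIntegral X'] [IsIntegral X]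
    (M : X.Modules) (hM : CohB1.IsAmple M) (N : ℕ) (i : X' ⟶ CohB1.ProjSpaceOver N X)
    [IsClosedImmersion i]
    (hbir : ∃ U : X.Opens, (U : Set X).Nonempty ∧
      IsIso ((i ≫ CohB1.ProjSpaceOver.toBase N X) ∣_ U)) :
    ∃ I : X.IdealSheafData, BlowUp.IsBlowUp (i ≫ CohB1.ProjSpaceOver.toBase N X) I := by
  classical
  obtain ⟨U, hU, hiso⟩ := hbir
  have hdom : (i ≫ CohB1.ProjSpaceOver.toBase N X) (genericPoint X') = genericPoint X :=
    map_genericPoint_of_isIso_restrict _ U hU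
  have hsurj := residueFieldMap_surjective_of_isIso_restrict
    (i ≫ CohB1.ProjSpaceOver.toBase N X) U hU
  let t : Spec (X'.residueField (genericPoint X')) ⟶ X' :=
    X'.fromSpecResidueField (genericPoint X')
  have ht : t (IsLocalRing.closedPoint (X'.residueField (genericPoint X'))) = genericPoint X' :=
    X'.fromSpecResidueField_apply _ _
  obtain ⟨l₀, h₀⟩ : ∃ l₀, InChart i t l₀ := exists_stdChart N (ULift.{u} ℤ) _
  haveI : CompactSpace X := hM.2.1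
  haveI : QuasiSeparatedSpace X := quasiSeparatedSpace_of_cover hM.1 hM.2.2
  obtain ⟨𝔘, haff, i₀, V₀, hV₀, hV₀aff, hx₀, B, hB, hext⟩ :=
    exists_coordFams_of_isAmple hM (genericPoint X)
  -- the generic point lies in every nonempty open
  have hpt : ∀ {V : X.Opens} {x : X}, x ∈ V →
      (t ≫ i ≫ CohB1.ProjSpaceOver.toBase N X)
        (IsLocalRing.closedPoint (X'.residueField (genericPoint X'))) ∈ V :=
    fun hx => generic_mem i t ht hdom hx
  -- the coordinates of the generic point as fractions on `V₀`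
  choose z hz using fun l => hsurj (uu i t l₀ l)
  have hy₀ : (i ≫ CohB1.ProjSpaceOver.toBase N X) (genericPoint X') ∈ V₀ := by
    rw [hdom]; exact hx₀
  obtain ⟨q, p, hq, hp⟩ := exists_common_denominator hV₀aff _ hy₀ z
  have hE : evAt (t ≫ i ≫ CohB1.ProjSpaceOver.toBase N X) V₀ (hpt hx₀) =
      X.presheaf.germ V₀ _ hy₀ ≫ X.residue _ ≫
        (i ≫ CohB1.ProjSpaceOver.toBase N X).residueFieldMap (genericPoint X') :=
    evAt_fromSpecResidueField_comp _ (genericPoint X') V₀ _ hy₀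
  have hR1 : ∀ l, fsharp i t V₀ (hpt hx₀) (p l) = fsharp i t V₀ (hpt hx₀) q * uu i t l₀ l := by
    intro l
    change (evAt (t ≫ i ≫ CohB1.ProjSpaceOver.toBase N X) V₀ (hpt hx₀)).hom (p l) =
      (evAt (t ≫ i ≫ CohB1.ProjSpaceOver.toBase N X) V₀ (hpt hx₀)).hom q * _
    rw [hE, ← hz l]
    have := congrArg ((i ≫ CohB1.ProjSpaceOver.toBase N X).residueFieldMap (genericPoint X')).hom
      (hp l)
    rw [map_mul] at this
    exact this.symm
  have hq' : fsharp i t V₀ (hpt hx₀) q ≠ 0 := by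
    change (evAt (t ≫ i ≫ CohB1.ProjSpaceOver.toBase N X) V₀ (hpt hx₀)).hom q ≠ 0
    rw [hE]
    exact (hq.map ((i ≫ CohB1.ProjSpaceOver.toBase N X).residueFieldMap
      (genericPoint X')).hom).ne_zero
  -- extension to coordinate families
  obtain ⟨C, n, r, hr1, hr2⟩ := hext (Fin.cons q p : Fin (N + 1 + 1) → Γ(X, V₀))
  have hβ : fsharp i t V₀ (hpt hx₀) (rres X hV₀ B) ≠ 0 := by
    have hu : IsUnit (rres X hV₀ B) := by
      have h1 := RingedSpace.isUnit_res_basicOpen X.toRingedSpace B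
      have h2 : IsUnit (rres X (X.basicOpen_le B) B) := h1
      subst hB
      exact h2
    exact (hu.map (fsharp i t V₀ (hpt hx₀))).ne_zero
  have hR2 : ∀ l, fsharp i t (𝔘.W i₀) (hpt (hV₀ hx₀)) (r l i₀) =
      fsharp i t V₀ (hpt hx₀) ((Fin.cons q p : Fin (N + 1 + 1) → Γ(X, V₀)) l) *
        fsharp i t V₀ (hpt hx₀) (rres X hV₀ B) ^ n := by
    intro l
    rw [← map_pow, ← map_mul, ← hr2 l]
    exact (evAt_rres _ hV₀ (hpt hx₀) (r l i₀)).symm
  have hR3 : ∀ (l : Fin (N + 1 + 1)) (j j' : 𝔘.ι) {x x' : X} (hx : x ∈ 𝔘.W j) (hx' : x' ∈ 𝔘.W j'),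
      fsharp i t (𝔘.W j) (hpt hx) (r l j) = fsharp i t (𝔘.W j') (hpt hx') (r l j') *
        fsharp i t (𝔘.W j ⊓ 𝔘.W j') ⟨hpt hx, hpt hx'⟩ (C j j') := by
    intro l j j' x x' hx hx'
    have h1 := congrArg (fsharp i t (𝔘.W j ⊓ 𝔘.W j') ⟨hpt hx, hpt hx'⟩) (hr1 l j j')
    rw [map_mul] at h1
    rw [← evAt_rres _ (inf_le_left : 𝔘.W j ⊓ 𝔘.W j' ≤ 𝔘.W j) ⟨hpt hx, hpt hx'⟩ (r l j),
      ← evAt_rres _ (inf_le_right : 𝔘.W j ⊓ 𝔘.W j' ≤ 𝔘.W j') ⟨hpt hx, hpt hx'⟩ (r l j')]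
    exact h1
  -- the denominators do not vanish
  have hden₀ : fsharp i t (𝔘.W i₀) (hpt (hV₀ hx₀)) (r 0 i₀) ≠ 0 := by
    rw [hR2 0]
    exact mul_ne_zero hq' (pow_ne_zero _ hβ)
  have hden : ∀ (j : 𝔘.ι) {x : X} (hx : x ∈ 𝔘.W j), fsharp i t (𝔘.W j) (hpt hx) (r 0 j) ≠ 0 := by
    intro j x hx h0
    apply hden₀
    rw [hR3 0 i₀ j (hV₀ hx₀) hx, h0, zero_mul]
  have hrel : ∀ (l : Fin (N + 1)) (j : 𝔘.ι) {x : X} (hx : x ∈ 𝔘.W j),
      fsharp i t (𝔘.W j) (hpt hx) (r l.succ j) =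
        fsharp i t (𝔘.W j) (hpt hx) (r 0 j) * uu i t l₀ l := by
    intro l j x hx
    rw [hR3 l.succ j i₀ hx (hV₀ hx₀), hR3 0 j i₀ hx (hV₀ hx₀), hR2 l.succ, hR2 0, Fin.cons_succ,
      Fin.cons_zero, hR1 l]
    ring
  -- a finite subcover and the ideal sheaf
  choose idx hidx using 𝔘.cov
  obtain ⟨T, hT⟩ := CompactSpace.elim_nhds_subcover (fun x => ((𝔘.W (idx x) : X.Opens) : Set X))
    (fun x => (𝔘.W (idx x)).isOpen.mem_nhds (hidx x))
  have hcovT : ∀ x : X, ∃ s ∈ T, x ∈ 𝔘.W (idx s) := by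
    intro x
    have hx : x ∈ ⋃ y ∈ T, ((𝔘.W (idx y) : X.Opens) : Set X) := hT ▸ Set.mem_univ x
    simpa using hx
  obtain ⟨I, hI⟩ := exists_idealSheaf_span (fun s : ↥T => 𝔘.W (idx s.1)) (fun s => haff _)
    (fun (l : Fin (N + 1)) s => r l.succ (idx s.1)) (fun s s' => C (idx s.1) (idx s'.1))
    (fun l s s' => hr1 l.succ (idx s.1) (idx s'.1))
  refine ⟨I, isBlowUp_of_generic_coordinates i t ht hdom h₀ I fun x => ?_⟩
  obtain ⟨s, hsT, hxs⟩ := hcovT x
  refine ⟨⟨𝔘.W (idx s), haff _⟩, hxs, fun l => r l.succ (idx s),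
    fsharp i t (𝔘.W (idx s)) (hpt hxs) (r 0 (idx s)), (hden (idx s) hxs).isUnit,
    fun l => hrel l (idx s) hxs, ?_, ?_⟩
  · intro l
    change _ ∈ I.ideal ⟨𝔘.W (idx s), haff _⟩
    rw [hI ⟨s, hsT⟩]
    exact Ideal.subset_span ⟨l, rfl⟩
  · exact le_of_eq (hI ⟨s, hsT⟩)

end Groth.Agent.H20.Birat
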