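import Groth.Agent.H20.RelProj.HProjChart

/-!
# Dehomogenisation of homogeneous polynomials in homogeneous localisations (helper20)
-/

set_option autoImplicit false
universe u

open HomogeneousLocalization

namespace Groth.Agent.H20.Birat

open Groth.Agent.H97.ProjChart Groth.Agent.H18

section scale

variable {R B : Type*} [CommRing R] [CommRing B] {σ : Type*} [Fintype σ]

theorem eval₂_scale (c : R →+* B) (t : B) (b : σ → B) {d : ℕ} {F : MvPolynomial σ R}
    (hF : F.IsHomogeneous d) :
    MvPolynomial.eval₂ c (fun l => t * b l) F = t ^ d * MvPolynomial.eval₂ c b F := by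
  rw [MvPolynomial.eval₂_eq', MvPolynomial.eval₂_eq', Finset.mul_sum]
  refine Finset.sum_congr rfl (fun m hm => ?_)
  have h1 : ∏ i, (t * b i) ^ m i = t ^ d * ∏ i, b i ^ m i := by
    simp_rw [mul_pow]
    rw [Finset.prod_mul_distrib, Finset.prod_pow_eq_pow_sum]
    congr 2
    rw [hF.degree_eq_sum_deg_support hm]
    exact (Finset.sum_subset (Finset.subset_univ _)
      (fun i _ hi => by simpa using hi)).symm
  rw [h1]
  ring

end scale

section dehom

variable (n : ℕ) (R : Type u) [CommRing R]

/-- the constants in the degree-zero localisation -/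
noncomputable def cstHom (j : Fin (n + 1)) :
    R →+* Away (CohB1.polyGrading n R) (MvPolynomial.X j) :=
  (HomogeneousLocalization.fromZeroRingHom (CohB1.polyGrading n R) _).comp
    (algebraMap R (CohB1.polyGrading n R 0))

/-- the fraction `X l / X j` -/
noncomputable def ratio (j l : Fin (n + 1)) : Away (CohB1.polyGrading n R) (MvPolynomial.X j) :=
  Away.mk (CohB1.polyGrading n R) (X_mem R n j) 1 (MvPolynomial.X l)
    (by rw [smul_eq_mul, mul_one]; exact X_mem R n l)

variable {n R}

theorem val_cstHom (j : Fin (n + 1)) (r : R) :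
    (cstHom n R j r).val = algebraMap _ _ (MvPolynomial.C r : MvPolynomial (Fin (n + 1)) R) := by
  unfold cstHom
  rw [RingHom.comp_apply]
  rfl

theorem val_ratio (j l : Fin (n + 1)) :
    (ratio n R j l).val = Localization.mk (MvPolynomial.X l : MvPolynomial (Fin (n + 1)) R)
      (⟨MvPolynomial.X j ^ 1, 1, rfl⟩ : Submonoid.powers (MvPolynomial.X j)) :=
  Away.val_mk ..

theorem mk_eq_eval₂ (j : Fin (n + 1)) {d : ℕ} {F : MvPolynomial (Fin (n + 1)) R}
    (hF : F ∈ CohB1.polyGrading n R d) :
    Away.mk (CohB1.polyGrading n R) (X_mem R n j) d F (by rw [smul_eq_mul, mul_one]; exact hF) =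
      MvPolynomial.eval₂ (cstHom n R j) (ratio n R j) F := by
  apply HomogeneousLocalization.val_injective
  rw [Away.val_mk]
  have h1 := MvPolynomial.eval₂_comp_left
    (algebraMap (Away (CohB1.polyGrading n R) (MvPolynomial.X j))
      (Localization.Away (MvPolynomial.X j : MvPolynomial (Fin (n + 1)) R)))
    (cstHom n R j) (ratio n R j) F
  change _ = algebraMap (Away (CohB1.polyGrading n R) (MvPolynomial.X j))
      (Localization.Away (MvPolynomial.X j : MvPolynomial (Fin (n + 1)) R)) _
  rw [h1]
  set t : Localization.Away (MvPolynomial.X j : MvPolynomial (Fin (n + 1)) R) :=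
    Localization.mk 1 (⟨MvPolynomial.X j ^ 1, 1, rfl⟩ : Submonoid.powers (MvPolynomial.X j)) with ht
  have h2 : (algebraMap (Away (CohB1.polyGrading n R) (MvPolynomial.X j))
      (Localization.Away (MvPolynomial.X j : MvPolynomial (Fin (n + 1)) R))) ∘ ratio n R j =
      fun l => t * algebraMap _ _ (MvPolynomial.X l : MvPolynomial (Fin (n + 1)) R) := by
    funext l
    change (ratio n R j l).val = _
    rw [val_ratio, ht, ← Localization.mk_one_eq_algebraMap, Localization.mk_mul, one_mul, mul_one]
  have h3 : (algebraMap (Away (CohB1.polyGrading n R) (MvPolynomial.X j))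
      (Localization.Away (MvPolynomial.X j : MvPolynomial (Fin (n + 1)) R))).comp (cstHom n R j) =
      (algebraMap (MvPolynomial (Fin (n + 1)) R) _).comp MvPolynomial.C := by
    ext r
    exact val_cstHom j r
  rw [h2, h3, eval₂_scale _ t _ ((MvPolynomial.mem_homogeneousSubmodule d F).mp hF)]
  have h4 : MvPolynomial.eval₂ ((algebraMap (MvPolynomial (Fin (n + 1)) R)
      (Localization.Away (MvPolynomial.X j : MvPolynomial (Fin (n + 1)) R))).comp MvPolynomial.C)
      (fun l => algebraMap _ _ (MvPolynomial.X l : MvPolynomial (Fin (n + 1)) R)) F =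
      algebraMap _ _ F := by
    have := MvPolynomial.eval₂_comp_left (algebraMap (MvPolynomial (Fin (n + 1)) R)
      (Localization.Away (MvPolynomial.X j : MvPolynomial (Fin (n + 1)) R)))
      MvPolynomial.C MvPolynomial.X F
    rw [MvPolynomial.eval₂_eta] at this
    exact this.symm
  rw [h4, ht, Localization.mk_pow, one_pow, ← Localization.mk_one_eq_algebraMap, Localization.mk_mul,
    one_mul, mul_one]
  congr 1
  apply Subtype.ext
  change _ = (MvPolynomial.X j ^ 1) ^ d
  rw [pow_one]

end dehom

end Groth.Agent.H20.Birat
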