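import Groth.Agent.H20.Birat.EvPt
import Groth.Agent.H20.Birat.Dehom
import Groth.Agent.H20.RelProj.HProjChart
import Groth.Agent.H8.ProjSec

/-!
# The homogeneous ideal of an integral closed subscheme of `P^n_X` via its generic point (helper20)
-/

set_option autoImplicit false
set_option backward.isDefEq.respectTransparency false
universe u

open CategoryTheory CategoryTheory.Limits AlgebraicGeometry TopologicalSpace Opposite
open HomogeneousLocalization

namespace Groth.Agent.H20.Birat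

open Groth.Agent.H20.RelProj Groth.Agent.H97.ProjChart Groth.Agent.H18 Groth.Agent.H8.ProjSec
  Groth.Agent.H18.PUP

attribute [local instance low] ulZAlgebra

section secmap

variable {R R' A B : Type u} [CommRing R] [CommRing R'] [CommRing A] [CommRing B] [Algebra R A]
  [Algebra R' B]
  {𝒜 : ℕ → Submodule R A} {ℬ : ℕ → Submodule R' B} [GradedAlgebra 𝒜] [GradedAlgebra ℬ]

theorem appLE_sec (φ : 𝒜 →+*ᵍ ℬ) (hφ : HomogeneousIdeal.irrelevant ℬ ≤ (HomogeneousIdeal.irrelevant 𝒜).map φ)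
    {g : A} (hg : g ∈ 𝒜 1) {g' : B} (hg' : g' = φ g) {k : ℕ} {a : A} (ha : a ∈ 𝒜 k) :
    ((Proj.map φ hφ).appLE (Proj.basicOpen 𝒜 g) (Proj.basicOpen ℬ g') (by subst hg'; rfl)).hom
      (sec 𝒜 hg a) = sec ℬ (hg' ▸ φ.map_mem hg) (φ a) := by
  subst hg'
  unfold sec
  have hφa : φ a ∈ ℬ k := φ.map_mem ha
  have hφg : φ g ∈ ℬ 1 := φ.map_mem hg
  rw [RingHom.comp_apply, RingHom.comp_apply, dehom_apply 𝒜 hg ha, dehom_apply ℬ hφg hφa]
  have h1 := Proj.awayToSection_comp_appLE φ hφ hg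
  have h2 := congr($h1 (Away.mk 𝒜 hg k a (mem_smul_one 𝒜 ha)))
  rw [CommRingCat.comp_apply, CommRingCat.comp_apply] at h2
  refine h2.trans ?_
  congr 1
  exact Away.map_mk ..

end secmap

section global

variable {X' X : Scheme.{u}} {n : ℕ} (i : X' ⟶ CohB1.ProjSpaceOver n X)
variable {K : CommRingCat.{u}} [IsLocalRing K] (t : Spec K ⟶ X')

/-- the grading of `ℤ[x]` -/
noncomputable abbrev PZ (n : ℕ) : ℕ → Submodule (ULift.{u} ℤ) (MvPolynomial (Fin (n + 1)) (ULift.{u} ℤ)) :=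
  CohB1.polyGrading n (ULift.{u} ℤ)

/-- the point of `P^n_ℤ` defined by `t` -/
noncomputable def tau : Spec K ⟶ Proj (PZ.{u} n) := t ≫ i ≫ fstP n X

/-- the point lies in the `j`-th standard chart -/
def InChart (j : Fin (n + 1)) : Prop :=
  tau i t (IsLocalRing.closedPoint K) ∈ Proj.basicOpen (PZ.{u} n) (MvPolynomial.X j)

open Classical in
/-- the value of `x_l / x_j` at the point -/
noncomputable def uu (j l : Fin (n + 1)) : K :=
  if h : InChart i t j then
    (evAt (tau i t) _ h).hom (sec (PZ.{u} n) (X_mem (ULift.{u} ℤ) n j) (MvPolynomial.X l))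
  else 0

theorem uu_of_inChart {j : Fin (n + 1)} (h : InChart i t j) (l : Fin (n + 1)) :
    uu i t j l =
      (evAt (tau i t) _ h).hom (sec (PZ.{u} n) (X_mem (ULift.{u} ℤ) n j) (MvPolynomial.X l)) :=
  dif_pos h

theorem uu_self {j : Fin (n + 1)} (h : InChart i t j) : uu i t j j = 1 := by
  rw [uu_of_inChart i t h, sec_self, map_one]

theorem uu_mul {j l₀ : Fin (n + 1)} (hj : InChart i t j) (h₀ : InChart i t l₀) (l : Fin (n + 1)) :
    uu i t l₀ j * uu i t j l = uu i t l₀ l := by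
  rw [uu_of_inChart i t hj, uu_of_inChart i t h₀, uu_of_inChart i t h₀]
  have hmem : tau i t (IsLocalRing.closedPoint K) ∈
      Proj.basicOpen (PZ.{u} n) (MvPolynomial.X j * MvPolynomial.X l₀) := by
    rw [Proj.basicOpen_mul]
    exact ⟨hj, h₀⟩
  have h1 := res_sec_eq (PZ.{u} n) (X_mem (ULift.{u} ℤ) n j) (X_mem (ULift.{u} ℤ) n l₀)
    (X_mem (ULift.{u} ℤ) n l)
  have h2 := congrArg (evAt (tau i t) _ hmem).hom h1
  rw [map_mul, map_pow, pow_one] at h2
  have key : ∀ {D : (Proj (PZ.{u} n)).Opens} (hle : Proj.basicOpen (PZ.{u} n)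
      (MvPolynomial.X j * MvPolynomial.X l₀) ≤ D) (s : Γ(Proj (PZ.{u} n), D)),
      (evAt (tau i t) _ hmem).hom (((Proj (PZ.{u} n)).presheaf.map (homOfLE hle).op).hom s) =
        (evAt (tau i t) D (hle hmem)).hom s := by
    intro D hle s
    have := evAt_res (tau i t) hle hmem
    exact congr($this s)
  rw [key, key, key] at h2
  exact h2.symm

end global

end Groth.Agent.H20.Birat

namespace Groth.Agent.H20.Birat

open Groth.Agent.H20.RelProj Groth.Agent.H97.ProjChart Groth.Agent.H18 Groth.Agent.H8.ProjSec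
  Groth.Agent.H18.PUP

attribute [local instance low] ulZAlgebra

section chart

variable {X' X : Scheme.{u}} {n : ℕ} (i : X' ⟶ CohB1.ProjSpaceOver n X) [IsClosedImmersion i]
variable {K : CommRingCat.{u}} [IsLocalRing K] (t : Spec K ⟶ X')
variable (V : X.Opens) (hV : IsAffineOpen V)
  (hmem : (t ≫ i ≫ CohB1.ProjSpaceOver.toBase n X) (IsLocalRing.closedPoint K) ∈ V)

/-- the grading of `Γ(X,V)[x]` -/
noncomputable abbrev PV : ℕ → Submodule Γ(X, V) (MvPolynomial (Fin (n + 1)) Γ(X, V)) :=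
  CohB1.polyGrading n Γ(X, V)

include hmem in
theorem range_t_subset :
    Set.range t ⊆ Set.range ((i ≫ CohB1.ProjSpaceOver.toBase n X) ⁻¹ᵁ V).ι := by
  rw [Scheme.Opens.range_ι]
  have h1 := Scheme.preimage_eq_top_of_closedPoint_mem
    (t ≫ i ≫ CohB1.ProjSpaceOver.toBase n X) hmem
  rintro _ ⟨x, rfl⟩
  have hx : x ∈ (t ≫ i ≫ CohB1.ProjSpaceOver.toBase n X) ⁻¹ᵁ V := by
    rw [h1]; trivial
  exact hx

/-- the point, as a point of `f⁻¹(V)` -/
noncomputable def tV : Spec K ⟶ ((i ≫ CohB1.ProjSpaceOver.toBase n X) ⁻¹ᵁ V : Scheme.{u}) :=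
  IsOpenImmersion.lift ((i ≫ CohB1.ProjSpaceOver.toBase n X) ⁻¹ᵁ V).ι t (range_t_subset i t V hmem)

@[reassoc]
theorem tV_ι : tV i t V hmem ≫ ((i ≫ CohB1.ProjSpaceOver.toBase n X) ⁻¹ᵁ V).ι = t :=
  IsOpenImmersion.lift_fac _ _ _

/-- the point, as a point of `P^n_{Γ(X,V)}` -/
noncomputable def tauV : Spec K ⟶ Proj (PV (n := n) V) := tV i t V hmem ≫ zU' i V hV

@[reassoc]
theorem tauV_psi' : tauV i t V hV hmem ≫ psi' n V hV = t ≫ i := by
  unfold tauV
  rw [Category.assoc, zU'_psi', tV_ι_assoc]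

theorem tauV_projMap :
    tauV i t V hV hmem ≫ Proj.map (gmap (ULift.{u} ℤ) Γ(X, V) n) (irrelevant_le_map _ _ n) =
      tau i t := by
  have h1 : psi' n V hV ≫ fstP n X =
      Proj.map (gmap (ULift.{u} ℤ) Γ(X, V) n) (irrelevant_le_map _ _ n) := psi_fst n V hV
  rw [← h1, tauV_psi'_assoc]
  rfl

theorem inChart_iff (j : Fin (n + 1)) :
    InChart i t j ↔ tauV i t V hV hmem (IsLocalRing.closedPoint K) ∈
      Proj.basicOpen (PV (n := n) V) (MvPolynomial.X j) := by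
  unfold InChart
  rw [← tauV_projMap i t V hV hmem]
  have h2 : Proj.basicOpen (PV (n := n) V) (MvPolynomial.X j) =
      Proj.map (gmap (ULift.{u} ℤ) Γ(X, V) n) (irrelevant_le_map _ _ n) ⁻¹ᵁ
        Proj.basicOpen (PZ.{u} n) (MvPolynomial.X j) := by
    rw [Proj.map_preimage_basicOpen, gmap_X]
  rw [h2]
  rfl

theorem uu_eq {j : Fin (n + 1)} (hj : InChart i t j) (l : Fin (n + 1)) :
    uu i t j l = (evAt (tauV i t V hV hmem) _ ((inChart_iff i t V hV hmem j).mp hj)).hom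
      (sec (PV (n := n) V) (X_mem Γ(X, V) n j) (MvPolynomial.X l)) := by
  rw [uu_of_inChart i t hj]
  have hj' := (inChart_iff i t V hV hmem j).mp hj
  have e : Proj.basicOpen (PV (n := n) V) (MvPolynomial.X j) ≤
      Proj.map (gmap (ULift.{u} ℤ) Γ(X, V) n) (irrelevant_le_map _ _ n) ⁻¹ᵁ
        Proj.basicOpen (PZ.{u} n) (MvPolynomial.X j) := by
    rw [Proj.map_preimage_basicOpen, gmap_X]
  have h1 := evAt_appLE (tauV i t V hV hmem)
    (Proj.map (gmap (ULift.{u} ℤ) Γ(X, V) n) (irrelevant_le_map _ _ n))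
    (Proj.basicOpen (PZ.{u} n) (MvPolynomial.X j)) _ e hj'
  have h2 := evAt_congr (tauV_projMap i t V hV hmem)
    (Proj.basicOpen (PZ.{u} n) (MvPolynomial.X j)) (e hj')
  rw [h2] at h1
  have h3 := congr($h1 (sec (PZ.{u} n) (X_mem (ULift.{u} ℤ) n j) (MvPolynomial.X l)))
  rw [CommRingCat.comp_apply] at h3
  rw [← h3]
  congr 1
  have h4 := appLE_sec (gmap (ULift.{u} ℤ) Γ(X, V) n) (irrelevant_le_map _ _ n)
    (X_mem (ULift.{u} ℤ) n j) (gmap_X (ULift.{u} ℤ) Γ(X, V) n j).symm (X_mem (ULift.{u} ℤ) n l)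
  rw [h4]
  exact congrArg (sec (PV (n := n) V) (X_mem Γ(X, V) n j)) (gmap_X (ULift.{u} ℤ) Γ(X, V) n l)

/-- the structure morphism `P^n_{Γ(X,V)} ⟶ Spec Γ(X,V)` -/
noncomputable abbrev qV : Proj (PV (n := n) V) ⟶ Spec Γ(X, V) :=
  Proj.toSpecZero (PV (n := n) V) ≫
    Spec.map (CommRingCat.ofHom (algebraMap Γ(X, V) (PV (n := n) V 0)))

theorem tauV_qV :
    (tauV i t V hV hmem ≫ qV (n := n) V) ≫ hV.fromSpec = t ≫ i ≫ CohB1.ProjSpaceOver.toBase n X := by
  rw [← tauV_psi'_assoc i t V hV hmem, psi'_toBase]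
  simp only [Category.assoc]

theorem evAt_fromSpec {s : Spec K ⟶ Spec Γ(X, V)}
    (h : (s ≫ hV.fromSpec) (IsLocalRing.closedPoint K) ∈ V) (a : Γ(X, V)) :
    (evAt (s ≫ hV.fromSpec) V h).hom a =
      (evAt s ⊤ trivial).hom ((Scheme.ΓSpecIso Γ(X, V)).inv.hom a) := by
  rw [evAt_comp s hV.fromSpec V h, CommRingCat.comp_apply, hV.fromSpec_app_self,
    CommRingCat.comp_apply]
  have h1 := evAt_res s (le_top : hV.fromSpec ⁻¹ᵁ V ≤ ⊤) h
  have h2 : (eqToHom hV.fromSpec_preimage_self).op =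
      (homOfLE (le_top : hV.fromSpec ⁻¹ᵁ V ≤ ⊤)).op := Subsingleton.elim _ _
  rw [h2]
  exact congr($h1 ((Scheme.ΓSpecIso Γ(X, V)).inv.hom a))

theorem ev_C {j : Fin (n + 1)}
    (hj' : tauV i t V hV hmem (IsLocalRing.closedPoint K) ∈
      Proj.basicOpen (PV (n := n) V) (MvPolynomial.X j)) (a : Γ(X, V)) :
    (evAt (tauV i t V hV hmem) _ hj').hom
      (sec (PV (n := n) V) (X_mem Γ(X, V) n j) (MvPolynomial.C a)) =
      (evAt (t ≫ i ≫ CohB1.ProjSpaceOver.toBase n X) V hmem).hom a := by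
  have h0 : (MvPolynomial.C a : MvPolynomial (Fin (n + 1)) Γ(X, V)) =
      algebraMap Γ(X, V) _ a := rfl
  rw [h0, sec_algebraMap (PV (n := n) V) (X_mem Γ(X, V) n j) a]
  have h1 := evAt_res (tauV i t V hV hmem)
    (le_top : Proj.basicOpen (PV (n := n) V) (MvPolynomial.X j) ≤ ⊤) hj'
  have h2 := congr($h1 (ProjUP.toGlobal (qV (n := n) V) a))
  rw [CommRingCat.comp_apply] at h2
  rw [h2]
  have h3 := evAt_congr (tauV_qV i t V hV hmem).symm V hmem
  rw [h3, evAt_fromSpec V hV]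
  have h4 := evAt_comp (tauV i t V hV hmem) (qV (n := n) V) ⊤ trivial
  rw [h4]
  rfl

/-- pull-back of functions along `f`, evaluated at the point -/
noncomputable abbrev fsharp : Γ(X, V) →+* K :=
  (evAt (t ≫ i ≫ CohB1.ProjSpaceOver.toBase n X) V hmem).hom

theorem ev_sec_eq_eval₂ {j : Fin (n + 1)} (hj : InChart i t j)
    (F : MvPolynomial (Fin (n + 1)) Γ(X, V)) :
    (evAt (tauV i t V hV hmem) _ ((inChart_iff i t V hV hmem j).mp hj)).hom
      (sec (PV (n := n) V) (X_mem Γ(X, V) n j) F) =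
      MvPolynomial.eval₂ (fsharp i t V hmem) (uu i t j) F := by
  have hj' := (inChart_iff i t V hV hmem j).mp hj
  have h1 : ((evAt (tauV i t V hV hmem) _ hj').hom.comp
      (sec (PV (n := n) V) (X_mem Γ(X, V) n j))) =
      MvPolynomial.eval₂Hom (fsharp i t V hmem) (uu i t j) := by
    apply MvPolynomial.ringHom_ext
    · intro a
      rw [RingHom.comp_apply, ev_C i t V hV hmem hj' a, MvPolynomial.coe_eval₂Hom,
        MvPolynomial.eval₂_C]
    · intro l
      rw [RingHom.comp_apply, ← uu_eq i t V hV hmem hj l, MvPolynomial.coe_eval₂Hom,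
        MvPolynomial.eval₂_X]
  exact congr($h1 F)

theorem ev_zU' {j : Fin (n + 1)}
    (hj' : tauV i t V hV hmem (IsLocalRing.closedPoint K) ∈
      Proj.basicOpen (PV (n := n) V) (MvPolynomial.X j))
    (s : Γ(Proj (PV (n := n) V), Proj.basicOpen (PV (n := n) V) (MvPolynomial.X j))) :
    (evAt (tV i t V hmem) (zU' i V hV ⁻¹ᵁ Proj.basicOpen (PV (n := n) V) (MvPolynomial.X j)) hj').hom
      (((zU' i V hV).app _).hom s) = (evAt (tauV i t V hV hmem) _ hj').hom s := by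
  have h1 := evAt_comp (tV i t V hmem) (zU' i V hV)
    (Proj.basicOpen (PV (n := n) V) (MvPolynomial.X j)) hj'
  exact (congr($h1 s)).symm

theorem idl_ideal_dplus (j : Fin (n + 1)) :
    (idl i V hV).ideal (dplus (PV (n := n) V) (X_mem Γ(X, V) n j)) =
      RingHom.ker ((zU' i V hV).app (Proj.basicOpen (PV (n := n) V) (MvPolynomial.X j))).hom := by
  have h := Scheme.Hom.ker_apply (zU' i V hV) (dplus (PV (n := n) V) (X_mem Γ(X, V) n j))
  rw [ker_zU' i V hV] at h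
  exact h

omit [IsClosedImmersion i] in
theorem sec_eq_dfrac (j : Fin (n + 1)) {d : ℕ} {F : MvPolynomial (Fin (n + 1)) Γ(X, V)}
    (hF : F ∈ PV (n := n) V d) : sec (PV (n := n) V) (X_mem Γ(X, V) n j) F =
      (Proj.awayToSection (PV (n := n) V) (MvPolynomial.X j)).hom
        (dfrac (PV (n := n) V) (X_mem Γ(X, V) n j) d F) := by
  unfold sec
  rw [RingHom.comp_apply, dehom_apply (PV (n := n) V) (X_mem Γ(X, V) n j) hF, dfrac_of_mem _ hF]

theorem mem_chartIdeal_iff (j : Fin (n + 1)) (x : Away (PV (n := n) V) (MvPolynomial.X j)) :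
    x ∈ chartIdeal (PV (n := n) V) (idl i V hV) (MvPolynomial.X j) ↔
      ((zU' i V hV).app _).hom ((Proj.awayToSection (PV (n := n) V) (MvPolynomial.X j)).hom x) = 0 := by
  rw [chartIdeal_of_mem (PV (n := n) V) (idl i V hV) (X_mem Γ(X, V) n j), Ideal.mem_comap]
  exact SetLike.ext_iff.mp (idl_ideal_dplus i V hV j) _

include hmem in
theorem isIntegral_preV [IsIntegral X'] :
    IsIntegral ((i ≫ CohB1.ProjSpaceOver.toBase n X) ⁻¹ᵁ V : Scheme.{u}) := by
  haveI : Nonempty ((i ≫ CohB1.ProjSpaceOver.toBase n X) ⁻¹ᵁ V : Scheme.{u}) :=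
    ⟨tV i t V hmem (IsLocalRing.closedPoint K)⟩
  exact isIntegral_of_isOpenImmersion ((i ≫ CohB1.ProjSpaceOver.toBase n X) ⁻¹ᵁ V).ι

theorem tV_closedPoint [IsIntegral X'] (ht : t (IsLocalRing.closedPoint K) = genericPoint X') :
    haveI := isIntegral_preV i t V hmem
    tV i t V hmem (IsLocalRing.closedPoint K) =
      genericPoint ((i ≫ CohB1.ProjSpaceOver.toBase n X) ⁻¹ᵁ V : Scheme.{u}) := by
  haveI := isIntegral_preV i t V hmem
  have h1 := genericPoint_eq_of_isOpenImmersion ((i ≫ CohB1.ProjSpaceOver.toBase n X) ⁻¹ᵁ V).ι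
  have h2 : ((i ≫ CohB1.ProjSpaceOver.toBase n X) ⁻¹ᵁ V).ι (tV i t V hmem (IsLocalRing.closedPoint K)) =
      t (IsLocalRing.closedPoint K) := by
    rw [← Scheme.Hom.comp_apply, tV_ι]
  apply ((i ≫ CohB1.ProjSpaceOver.toBase n X) ⁻¹ᵁ V).ι.isOpenEmbedding.injective
  rw [h2, ht, h1]

theorem eval₂_eq_zero_of_mem_famI {l₀ : Fin (n + 1)} (h₀ : InChart i t l₀) {d : ℕ}
    {F : MvPolynomial (Fin (n + 1)) Γ(X, V)} (hF : F ∈ PV (n := n) V d) (hFI : F ∈ famI i V hV) :
    MvPolynomial.eval₂ (fsharp i t V hmem) (uu i t l₀) F = 0 := by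
  have h1 : dfrac (PV (n := n) V) (X_mem Γ(X, V) n l₀) d F ∈
      chartIdeal (PV (n := n) V) (idl i V hV) (MvPolynomial.X l₀) :=
    hFI d (MvPolynomial.X l₀) (X_mem_sX n _ l₀)
  have h2 := (mem_chartIdeal_iff i V hV l₀ _).mp h1
  have hj' := (inChart_iff i t V hV hmem l₀).mp h₀
  rw [← ev_sec_eq_eval₂ i t V hV hmem h₀ F, ← ev_zU' i t V hV hmem hj' _, sec_eq_dfrac V l₀ hF,
    h2, map_zero]

theorem mem_famI_of_eval₂_eq_zero [IsIntegral X']
    (ht : t (IsLocalRing.closedPoint K) = genericPoint X')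
    {l₀ : Fin (n + 1)} (h₀ : InChart i t l₀) {d : ℕ}
    {F : MvPolynomial (Fin (n + 1)) Γ(X, V)} (hF : F ∈ PV (n := n) V d)
    (hz : MvPolynomial.eval₂ (fsharp i t V hmem) (uu i t l₀) F = 0) : F ∈ famI i V hV := by
  haveI := isIntegral_preV i t V hmem
  apply mem_sectIdeal_of_mem _ _ _ hF
  intro f hf
  obtain ⟨j, rfl⟩ := (mem_sX n _).mp hf
  apply (mem_chartIdeal_iff i V hV j _).mpr
  rw [← sec_eq_dfrac V j hF]
  by_cases hj : InChart i t j
  · have hj' := (inChart_iff i t V hV hmem j).mp hj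
    apply evAt_injective_of_generic (tV i t V hmem) (tV_closedPoint i t V hmem ht) _ hj'
    rw [map_zero, ev_zU' i t V hV hmem hj', ev_sec_eq_eval₂ i t V hV hmem hj F]
    have h1 : uu i t j = fun l => uu i t j l₀ * uu i t l₀ l :=
      funext (fun l => (uu_mul i t h₀ hj l).symm)
    rw [h1, eval₂_scale _ _ _ ((MvPolynomial.mem_homogeneousSubmodule d F).mp hF), hz, mul_zero]
  · have hj' : tV i t V hmem (IsLocalRing.closedPoint K) ∉
        zU' i V hV ⁻¹ᵁ Proj.basicOpen (PV (n := n) V) (MvPolynomial.X j) := fun h =>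
      hj ((inChart_iff i t V hV hmem j).mpr h)
    have hbot : zU' i V hV ⁻¹ᵁ Proj.basicOpen (PV (n := n) V) (MvPolynomial.X j) = ⊥ := by
      by_contra hne
      apply hj'
      rw [tV_closedPoint i t V hmem ht]
      have hne' : (((zU' i V hV ⁻¹ᵁ Proj.basicOpen (PV (n := n) V) (MvPolynomial.X j) :
          ((i ≫ CohB1.ProjSpaceOver.toBase n X) ⁻¹ᵁ V : Scheme.{u}).Opens)) :
          Set ((i ≫ CohB1.ProjSpaceOver.toBase n X) ⁻¹ᵁ V : Scheme.{u})).Nonempty := by
        rw [Set.nonempty_iff_ne_empty]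
        intro he
        apply hne
        ext x
        simp [he]
      exact ((genericPoint_spec _).mem_open_set_iff
        (zU' i V hV ⁻¹ᵁ Proj.basicOpen (PV (n := n) V) (MvPolynomial.X j)).2).mpr
        (by simpa [Set.inter_comm] using hne')
    have hsub : Subsingleton Γ(((i ≫ CohB1.ProjSpaceOver.toBase n X) ⁻¹ᵁ V : Scheme.{u}),
        zU' i V hV ⁻¹ᵁ Proj.basicOpen (PV (n := n) V) (MvPolynomial.X j)) := by
      rw [hbot]
      infer_instance
    exact Subsingleton.elim _ _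

end chart

end Groth.Agent.H20.Birat
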