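import Groth.Agent.H20.Birat.Dehom
import Groth.Agent.H8.ReesProjGeom
import Groth.Agent.H41.ProjGen

/-!
# The Rees algebra of `J = (c_0, …, c_n)` as a quotient of the polynomial ring (helper20)
-/

set_option autoImplicit false
set_option linter.style.haveILetI false
universe u

open Polynomial AlgebraicGeometry
open scoped HomogeneousIdeal

namespace Groth.Agent.H20.Birat

open Groth.Agent.H8.ReesProj Groth.Agent.H18

variable {R : Type u} [CommRing R] {n : ℕ} (c : Fin (n + 1) → R) (J : Ideal R)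
  (hcJ : ∀ l, c l ∈ J) (hJc : J ≤ Ideal.span (Set.range c))

/-- `x_l ↦ c_l t` -/
noncomputable def rho : MvPolynomial (Fin (n + 1)) R →ₐ[R] reesAlgebra J :=
  MvPolynomial.aeval (fun l => tt J (c l) (hcJ l))

theorem coe_rho (F : MvPolynomial (Fin (n + 1)) R) :
    ((rho c J hcJ F : reesAlgebra J) : R[X]) =
      MvPolynomial.aeval (fun l => (monomial 1 (c l) : R[X])) F := by
  have h1 : (reesAlgebra J).val.comp (rho c J hcJ) =
      MvPolynomial.aeval (fun l => (monomial 1 (c l) : R[X])) := by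
    apply MvPolynomial.algHom_ext
    intro l
    rw [AlgHom.comp_apply, rho, MvPolynomial.aeval_X, MvPolynomial.aeval_X]
    rfl
  exact congr($h1 F)

theorem coe_rho_of_mem {d : ℕ} {F : MvPolynomial (Fin (n + 1)) R}
    (hF : F ∈ CohB1.polyGrading n R d) :
    ((rho c J hcJ F : reesAlgebra J) : R[X]) = monomial d (MvPolynomial.eval c F) := by
  rw [coe_rho, MvPolynomial.aeval_def]
  have h1 : (fun l => (monomial 1 (c l) : R[X])) = fun l => (X : R[X]) * C (c l) := by
    funext l
    rw [← C_mul_X_eq_monomial, mul_comm]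
  rw [h1, eval₂_scale _ _ _ ((MvPolynomial.mem_homogeneousSubmodule d F).mp hF)]
  have h2 := MvPolynomial.eval₂_comp_left (C : R →+* R[X]) (RingHom.id R) c F
  rw [MvPolynomial.eval₂_id] at h2
  have h3 : MvPolynomial.eval₂ (algebraMap R R[X]) (fun l => C (c l)) F =
      C (MvPolynomial.eval c F) := by
    rw [h2]
    rfl
  rw [h3, ← C_mul_X_pow_eq_monomial, mul_comm]

theorem rho_mem_deg {d : ℕ} {F : MvPolynomial (Fin (n + 1)) R}
    (hF : F ∈ CohB1.polyGrading n R d) : rho c J hcJ F ∈ Rees.deg (reesAlgebra J) d := by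
  rw [Rees.mem_deg_iff]
  intro m hm
  rw [coe_rho_of_mem c J hcJ hF, coeff_monomial, if_neg (Ne.symm hm)]

theorem rho_eq_zero_iff {d : ℕ} {F : MvPolynomial (Fin (n + 1)) R}
    (hF : F ∈ CohB1.polyGrading n R d) : rho c J hcJ F = 0 ↔ MvPolynomial.eval c F = 0 := by
  rw [← Subtype.coe_inj, coe_rho_of_mem c J hcJ hF]
  change monomial d _ = 0 ↔ _
  exact monomial_eq_zero_iff _ _

include hJc in
theorem rho_surjective : Function.Surjective (rho c J hcJ) := by
  rw [← AlgHom.range_eq_top, eq_top_iff, ← adjoin_tt_eq_top, Algebra.adjoin_le_iff]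
  rintro _ ⟨⟨a, ha⟩, rfl⟩
  change tt J a ha ∈ (rho c J hcJ).range
  have h1 : ∀ x ∈ Ideal.span (Set.range c), ∃ F : MvPolynomial (Fin (n + 1)) R,
      ((rho c J hcJ F : reesAlgebra J) : R[X]) = monomial 1 x := by
    intro x hx
    refine Submodule.span_induction (p := fun x _ => ∃ F : MvPolynomial (Fin (n + 1)) R,
      ((rho c J hcJ F : reesAlgebra J) : R[X]) = monomial 1 x) ?_ ?_ ?_ ?_ hx
    · rintro _ ⟨l, rfl⟩
      refine ⟨MvPolynomial.X l, ?_⟩
      rw [rho, MvPolynomial.aeval_X]
      rfl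
    · exact ⟨0, by rw [map_zero, map_zero]; rfl⟩
    · rintro x y _ _ ⟨F, hF⟩ ⟨G, hG⟩
      refine ⟨F + G, ?_⟩
      rw [map_add, map_add, ← hF, ← hG]
      rfl
    · rintro r x _ ⟨F, hF⟩
      refine ⟨MvPolynomial.C r * F, ?_⟩
      rw [map_mul, smul_eq_mul, ← C_mul_monomial, ← hF]
      have : rho c J hcJ (MvPolynomial.C r) = algebraMap R _ r := by
        rw [rho, MvPolynomial.aeval_C]
      rw [this]
      rfl
  obtain ⟨F, hF⟩ := h1 a (hJc ha)
  exact ⟨F, Subtype.ext hF⟩

/-- `rho` as a graded ring homomorphism -/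
noncomputable def rhoGr : CohB1.polyGrading n R →+*ᵍ Rees.deg (reesAlgebra J) where
  toRingHom := (rho c J hcJ).toRingHom
  map_mem := fun hx => rho_mem_deg c J hcJ hx

theorem rhoGr_apply (F : MvPolynomial (Fin (n + 1)) R) : rhoGr c J hcJ F = rho c J hcJ F := rfl

section quot

variable (I : Ideal (MvPolynomial (Fin (n + 1)) R)) (hI : I.IsHomogeneous (CohB1.polyGrading n R))
  (hker : ∀ (d : ℕ) (F : MvPolynomial (Fin (n + 1)) R), F ∈ CohB1.polyGrading n R d →
    (F ∈ I ↔ MvPolynomial.eval c F = 0))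

include hI hker in
theorem rho_eq_zero_of_mem (a : MvPolynomial (Fin (n + 1)) R) (ha : a ∈ I) :
    rho c J hcJ a = 0 := by
  classical
  rw [← DirectSum.sum_support_decompose (CohB1.polyGrading n R) a, map_sum]
  refine Finset.sum_eq_zero fun d _ => ?_
  rw [rho_eq_zero_iff c J hcJ (Subtype.prop _)]
  exact (hker d _ (Subtype.prop _)).mp (hI d ha)

/-- the induced map `R[x] / I ⟶ R(J)` -/
noncomputable def alpha :
    letI := quotGradedAlgebra (CohB1.polyGrading n R) hI
    quotGrading (CohB1.polyGrading n R) I →+*ᵍ Rees.deg (reesAlgebra J) :=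
  letI := quotGradedAlgebra (CohB1.polyGrading n R) hI
  { toRingHom := Ideal.Quotient.lift I (rho c J hcJ).toRingHom
      (rho_eq_zero_of_mem c J hcJ I hI hker)
    map_mem := by
      intro d x hx
      obtain ⟨a, ha, rfl⟩ := exists_of_mem_quotGrading _ _ hx
      exact rho_mem_deg c J hcJ ha }

theorem alpha_mk (a : MvPolynomial (Fin (n + 1)) R) :
    letI := quotGradedAlgebra (CohB1.polyGrading n R) hI
    alpha c J hcJ I hI hker (Ideal.Quotient.mk I a) = rho c J hcJ a := rfl

include hJc in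
theorem alpha_bijOn (d : ℕ) :
    letI := quotGradedAlgebra (CohB1.polyGrading n R) hI
    Set.BijOn (alpha c J hcJ I hI hker) (quotGrading (CohB1.polyGrading n R) I d)
      (Rees.deg (reesAlgebra J) d) := by
  letI := quotGradedAlgebra (CohB1.polyGrading n R) hI
  refine ⟨fun x hx => (alpha c J hcJ I hI hker).map_mem hx, ?_, ?_⟩
  · intro x hx y hy hxy
    obtain ⟨a, ha, rfl⟩ := exists_of_mem_quotGrading _ _ hx
    obtain ⟨b, hb, rfl⟩ := exists_of_mem_quotGrading _ _ hy
    rw [alpha_mk, alpha_mk, ← sub_eq_zero, ← map_sub,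
      rho_eq_zero_iff c J hcJ (Submodule.sub_mem _ ha hb)] at hxy
    rw [Ideal.Quotient.eq]
    exact (hker d _ (Submodule.sub_mem _ ha hb)).mpr hxy
  · intro p hp
    obtain ⟨a, ha, hap⟩ := Groth.Agent.H41.ProjGen.gradedRingHom_surjective_on_pieces
      (rhoGr c J hcJ) (rho_surjective c J hcJ hJc) d p hp
    exact ⟨Ideal.Quotient.mk I a, mk_mem_quotGrading _ _ ha, hap⟩

include hJc in
theorem alpha_surjective :
    letI := quotGradedAlgebra (CohB1.polyGrading n R) hI
    Function.Surjective (alpha c J hcJ I hI hker) := by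
  letI := quotGradedAlgebra (CohB1.polyGrading n R) hI
  intro p
  obtain ⟨a, rfl⟩ := rho_surjective c J hcJ hJc p
  exact ⟨Ideal.Quotient.mk I a, rfl⟩

include hJc in
theorem irrelevant_le_alpha :
    letI := quotGradedAlgebra (CohB1.polyGrading n R) hI
    (Rees.deg (reesAlgebra J))₊ ≤
      (quotGrading (CohB1.polyGrading n R) I)₊.map (alpha c J hcJ I hI hker) := by
  letI := quotGradedAlgebra (CohB1.polyGrading n R) hI
  exact irrelevant_le_map_of_surjective (alpha c J hcJ I hI hker)
    (alpha_surjective c J hcJ hJc I hI hker)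

theorem isIso_projMap_alpha :
    letI := quotGradedAlgebra (CohB1.polyGrading n R) hI
    CategoryTheory.IsIso (Proj.map (alpha c J hcJ I hI hker)
      (irrelevant_le_alpha c J hcJ hJc I hI hker)) := by
  letI := quotGradedAlgebra (CohB1.polyGrading n R) hI
  exact Groth.Agent.H41.ProjGen.isIso_projMap_of_bijOn_ge (alpha c J hcJ I hI hker) 0
    (fun d _ => alpha_bijOn c J hcJ hJc I hI hker d) _

open CategoryTheory in
theorem projMap_alpha_π :
    letI := quotGradedAlgebra (CohB1.polyGrading n R) hI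
    Proj.map (alpha c J hcJ I hI hker) (irrelevant_le_alpha c J hcJ hJc I hI hker) ≫
      Proj.toSpecZero (quotGrading (CohB1.polyGrading n R) I) ≫
        Spec.map (CommRingCat.ofHom (algebraMap R (quotGrading (CohB1.polyGrading n R) I 0))) =
      π J := by
  letI := quotGradedAlgebra (CohB1.polyGrading n R) hI
  rw [← Category.assoc, Groth.Agent.H41.ProjGen.map_toSpecZero, Category.assoc, ← Spec.map_comp]
  congr 2
  apply CommRingCat.hom_ext
  refine RingHom.ext fun r => ?_
  apply Subtype.ext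
  change alpha c J hcJ I hI hker (Ideal.Quotient.mk I (MvPolynomial.C r)) = algebraMap R _ r
  rw [alpha_mk, rho, MvPolynomial.aeval_C]

end quot

end Groth.Agent.H20.Birat
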