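import Groth.Agent.H20.Birat.Chart
import Groth.Agent.H20.Birat.ReesIso
import Groth.Agent.H20.RelProj.ReesChart

/-!
# An integral closed subscheme of `P^n_X` whose generic point has coordinates `(c_0 : … : c_n)` locally
is the blow-up of the ideal generated by the `c_l` (helper20)
-/

set_option autoImplicit false
set_option backward.isDefEq.respectTransparency false
set_option linter.style.haveILetI false
universe u

open CategoryTheory CategoryTheory.Limits AlgebraicGeometry TopologicalSpace Opposite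
open HomogeneousLocalization
open scoped HomogeneousIdeal

namespace Groth.Agent.H20.Birat

open Groth.Agent.H20.RelProj Groth.Agent.H97.ProjChart Groth.Agent.H18 Groth.Agent.H8.ProjSec
  Groth.Agent.H18.PUP Groth.Agent.H20.RelProj.ReesSheaf Scheme.IdealSheafData

section locbl

variable {X : Scheme.{u}} {𝓘 : X.IdealSheafData}

theorem IsLocBl.of_iso {V : X.Opens} {T T' : Scheme.{u}} {t : T ⟶ X} {t' : T' ⟶ X}
    (h : IsLocBl 𝓘 V t') (e : T ≅ T') (he : e.hom ≫ t' = t) : IsLocBl 𝓘 V t := by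
  subst he
  refine ⟨?_, ?_, ?_⟩
  · rintro _ ⟨x, rfl⟩
    exact h.range_le ⟨e.hom x, rfl⟩
  · rw [comap_comp]
    exact Groth.Agent.S1680.isEffCartier_comap_of_flat e.hom h.cartier
  · intro T'' g hg hc
    obtain ⟨k, hk, hu⟩ := h.lift T'' g hg hc
    refine ⟨k ≫ e.inv, ?_, ?_⟩
    · change (k ≫ e.inv) ≫ e.hom ≫ t' = g
      rw [Category.assoc, Iso.inv_hom_id_assoc, hk]
    · intro k' hk'
      have := hu (k' ≫ e.hom) (by change (k' ≫ e.hom) ≫ t' = g; rw [Category.assoc]; exact hk')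
      rw [← this, Category.assoc, Iso.hom_inv_id, Category.comp_id]

theorem isBlowUp_morphismRestrict_of_isLocBl {X' : Scheme.{u}} (b : X' ⟶ X) (V : X.Opens)
    (h : IsLocBl 𝓘 V ((b ⁻¹ᵁ V).ι ≫ b)) : BlowUp.IsBlowUp (b ∣_ V) (𝓘.comap V.ι) := by
  refine ⟨?_, ?_⟩
  · rw [← comap_comp, morphismRestrict_ι]
    exact h.cartier
  · intro T g hg
    have hr : Set.range (g ≫ V.ι) ⊆ V := by
      rintro _ ⟨x, rfl⟩
      exact (g x).2
    obtain ⟨k, hk, hu⟩ := h.lift T (g ≫ V.ι) hr (by rw [comap_comp]; exact hg)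
    refine ⟨k, ?_, ?_⟩
    · change k ≫ b ∣_ V = g
      rw [← cancel_mono V.ι, Category.assoc, morphismRestrict_ι, hk]
    · intro k' hk'
      apply hu
      change k' ≫ (b ⁻¹ᵁ V).ι ≫ b = g ≫ V.ι
      rw [← morphismRestrict_ι, ← Category.assoc]
      exact congrArg (· ≫ V.ι) hk'

end locbl

section chart

variable {X' X : Scheme.{u}} [IsIntegral X'] [IsIntegral X] {n : ℕ}
  (i : X' ⟶ CohB1.ProjSpaceOver n X) [IsClosedImmersion i]
  {K : CommRingCat.{u}} [IsLocalRing K] (t : Spec K ⟶ X')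
  (ht : t (IsLocalRing.closedPoint K) = genericPoint X')
  (hdom : (i ≫ CohB1.ProjSpaceOver.toBase n X) (genericPoint X') = genericPoint X)
  {l₀ : Fin (n + 1)} (h₀ : InChart i t l₀)
  (Us : X.AffineZariskiSite)
  (hmem : (t ≫ i ≫ CohB1.ProjSpaceOver.toBase n X) (IsLocalRing.closedPoint K) ∈ Us.toOpens)
  (c : Fin (n + 1) → Γ(X, Us.toOpens)) (r : K) (hr : IsUnit r)
  (hc : ∀ l, fsharp i t Us.toOpens hmem (c l) = r * uu i t l₀ l)

include ht hdom in
theorem fsharp_injective : Function.Injective (fsharp i t Us.toOpens hmem) := by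
  apply evAt_injective_of_generic
  rw [Scheme.Hom.comp_apply, ht, hdom]

include ht hdom h₀ hr hc in
theorem mem_famI_iff_eval {d : ℕ} {F : MvPolynomial (Fin (n + 1)) Γ(X, Us.toOpens)}
    (hF : F ∈ CohB1.polyGrading n Γ(X, Us.toOpens) d) :
    F ∈ famI i Us.toOpens Us.2 ↔ MvPolynomial.eval c F = 0 := by
  have h1 : fsharp i t Us.toOpens hmem (MvPolynomial.eval c F) =
      r ^ d * MvPolynomial.eval₂ (fsharp i t Us.toOpens hmem) (uu i t l₀) F := by
    have h2 := MvPolynomial.eval₂_comp_left (fsharp i t Us.toOpens hmem)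
      (RingHom.id Γ(X, Us.toOpens)) c F
    rw [MvPolynomial.eval₂_id, RingHom.comp_id] at h2
    rw [h2]
    have h3 : (fsharp i t Us.toOpens hmem) ∘ c = fun l => r * uu i t l₀ l := funext hc
    rw [h3, eval₂_scale _ _ _ ((MvPolynomial.mem_homogeneousSubmodule d F).mp hF)]
  constructor
  · intro hFI
    apply fsharp_injective i t ht hdom Us hmem
    rw [h1, eval₂_eq_zero_of_mem_famI i t Us.toOpens Us.2 hmem h₀ hF hFI, mul_zero, map_zero]
  · intro hz
    apply mem_famI_of_eval₂_eq_zero i t Us.toOpens Us.2 hmem ht h₀ hF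
    rw [hz, map_zero] at h1
    exact ((hr.pow d).mul_right_eq_zero).mp h1.symm

omit [IsIntegral X'] [IsIntegral X] in
theorem cU_over :
    (cU i Us).hom ≫ Proj.toSpecZero (G (idealFam i) Us) ≫
      Spec.map (CommRingCat.ofHom (algebraMap Γ(X, Us.toOpens) (G (idealFam i) Us 0))) ≫
        Us.2.fromSpec =
    ((i ≫ CohB1.ProjSpaceOver.toBase n X) ⁻¹ᵁ Us.toOpens).ι ≫ i ≫
      CohB1.ProjSpaceOver.toBase n X := by
  have hB := Groth.Agent.H41.ProjGen.map_toSpecZero (quotHom (idealFam i) Us)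
    (irrelevant_le_quotHom (idealFam i) Us)
  have hR : ((i ≫ CohB1.ProjSpaceOver.toBase n X) ⁻¹ᵁ Us.toOpens).ι ≫ i ≫
      CohB1.ProjSpaceOver.toBase n X =
      (cU i Us).hom ≫ Proj.map (quotHom (idealFam i) Us) (irrelevant_le_quotHom (idealFam i) Us) ≫
        psi' n Us.toOpens Us.2 ≫ CohB1.ProjSpaceOver.toBase n X := by
    rw [← zU'_psi'_assoc, cU_hom_projMap_assoc]
  rw [hR, psi'_toBase, reassoc_of% hB]
  congr 2
  rw [← Spec.map_comp_assoc]
  rfl

variable (𝓘 : X.IdealSheafData)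
  (hcJ : ∀ l, c l ∈ 𝓘.ideal ⟨Us.toOpens, Us.2⟩)
  (hJc : 𝓘.ideal ⟨Us.toOpens, Us.2⟩ ≤ Ideal.span (Set.range c))

include ht hdom h₀ hr hc hcJ hJc in
theorem isLocBl_chart :
    IsLocBl 𝓘 Us.toOpens (((i ≫ CohB1.ProjSpaceOver.toBase n X) ⁻¹ᵁ Us.toOpens).ι ≫ i ≫
      CohB1.ProjSpaceOver.toBase n X) := by
  have hker : ∀ (d : ℕ) (F : MvPolynomial (Fin (n + 1)) Γ(X, Us.toOpens)),
      F ∈ CohB1.polyGrading n Γ(X, Us.toOpens) d →
      (F ∈ (idealFam i).I Us ↔ MvPolynomial.eval c F = 0) := fun d F hF =>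
    mem_famI_iff_eval i t ht hdom h₀ Us hmem c r hr hc hF
  have hiso := isIso_projMap_alpha c (𝓘.ideal ⟨Us.toOpens, Us.2⟩) hcJ hJc ((idealFam i).I Us)
    ((idealFam i).hom Us) hker
  have hπ := projMap_alpha_π c (𝓘.ideal ⟨Us.toOpens, Us.2⟩) hcJ hJc ((idealFam i).I Us)
    ((idealFam i).hom Us) hker
  refine IsLocBl.of_iso (isLocBl_q 𝓘 ⟨Us.toOpens, Us.2⟩)
    (cU i Us ≪≫ (asIso (Proj.map (alpha c (𝓘.ideal ⟨Us.toOpens, Us.2⟩) hcJ ((idealFam i).I Us)
      ((idealFam i).hom Us) hker) (irrelevant_le_alpha c (𝓘.ideal ⟨Us.toOpens, Us.2⟩) hcJ hJc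
        ((idealFam i).I Us) ((idealFam i).hom Us) hker))).symm) ?_
  rw [← cU_over i Us]
  simp only [Iso.trans_hom, Iso.symm_hom, asIso_inv, Category.assoc]
  congr 1
  rw [IsIso.inv_comp_eq]
  unfold q
  rw [← hπ]
  simp only [Category.assoc]

end chart

section main

variable {X' X : Scheme.{u}} [IsIntegral X'] [IsIntegral X] {n : ℕ}
  (i : X' ⟶ CohB1.ProjSpaceOver n X) [IsClosedImmersion i]
  {K : CommRingCat.{u}} [IsLocalRing K] (t : Spec K ⟶ X')
  (ht : t (IsLocalRing.closedPoint K) = genericPoint X')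
  (hdom : (i ≫ CohB1.ProjSpaceOver.toBase n X) (genericPoint X') = genericPoint X)

include ht hdom in
omit [IsClosedImmersion i] in
theorem generic_mem {V : X.Opens} {x : X} (hx : x ∈ V) :
    (t ≫ i ≫ CohB1.ProjSpaceOver.toBase n X) (IsLocalRing.closedPoint K) ∈ V := by
  rw [Scheme.Hom.comp_apply, ht, hdom]
  exact ((genericPoint_spec X).mem_open_set_iff V.2).mpr ⟨x, trivial, hx⟩

include ht hdom in
/-- **Closure of the graph**: an integral closed subscheme `X'` of `P^n_X`, dominating the integral scheme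
`X`, whose generic point has homogeneous coordinates proportional, locally on `X`, to generators
`c_0, …, c_n` of an ideal sheaf `𝓘`, is the blow-up of `𝓘`. -/
theorem isBlowUp_of_generic_coordinates {l₀ : Fin (n + 1)} (h₀ : InChart i t l₀)
    (𝓘 : X.IdealSheafData)
    (H : ∀ x : X, ∃ (Us : X.AffineZariskiSite) (hx : x ∈ Us.toOpens)
      (c : Fin (n + 1) → Γ(X, Us.toOpens)) (r : K), IsUnit r ∧
      (∀ l, fsharp i t Us.toOpens (generic_mem i t ht hdom hx) (c l) = r * uu i t l₀ l) ∧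
      (∀ l, c l ∈ 𝓘.ideal ⟨Us.toOpens, Us.2⟩) ∧
      𝓘.ideal ⟨Us.toOpens, Us.2⟩ ≤ Ideal.span (Set.range c)) :
    BlowUp.IsBlowUp (i ≫ CohB1.ProjSpaceOver.toBase n X) 𝓘 := by
  apply Groth.Agent.H8.isBlowUp_of_local
  intro x
  obtain ⟨Us, hx, c, r, hr, hc, hcJ, hJc⟩ := H x
  refine ⟨Us.toOpens.toScheme, Us.toOpens.ι, inferInstance, _,
    (i ≫ CohB1.ProjSpaceOver.toBase n X) ∣_ Us.toOpens,
    ((i ≫ CohB1.ProjSpaceOver.toBase n X) ⁻¹ᵁ Us.toOpens).ι, ?_, ?_, ?_⟩
  · rw [Scheme.Opens.range_ι]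
    exact hx
  · exact (isPullback_morphismRestrict _ _).flip
  · apply isBlowUp_morphismRestrict_of_isLocBl
    have := isLocBl_chart i t ht hdom h₀ Us (generic_mem i t ht hdom hx) c r hr hc 𝓘 hcJ hJc
    simpa only [Category.assoc] using this

end main

end Groth.Agent.H20.Birat
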