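import Mathlib
import Groth.Prelude

/-!
# Evaluating sections at a point given by a morphism from the spectrum of a local ring (helper20)
-/

set_option autoImplicit false
set_option backward.isDefEq.respectTransparency false
universe u

open CategoryTheory AlgebraicGeometry TopologicalSpace Opposite

namespace Groth.Agent.H20.Birat

variable {Z Z' : Scheme.{u}} {K : CommRingCat.{u}} [IsLocalRing K]

/-- evaluation of sections at the point `t : Spec K ⟶ Z` -/
noncomputable def evAt (t : Spec K ⟶ Z) (D : Z.Opens) (h : t (IsLocalRing.closedPoint K) ∈ D) :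
    Γ(Z, D) ⟶ K :=
  Z.presheaf.germ D _ h ≫ Scheme.stalkClosedPointTo t

theorem evAt_comp (t : Spec K ⟶ Z) (g : Z ⟶ Z') (D' : Z'.Opens)
    (h : (t ≫ g) (IsLocalRing.closedPoint K) ∈ D') :
    evAt (t ≫ g) D' h = g.app D' ≫ evAt t (g ⁻¹ᵁ D') h := by
  unfold evAt
  rw [Scheme.stalkClosedPointTo_comp]
  exact (Scheme.Hom.germ_stalkMap_assoc g D' _ h _)

theorem evAt_res (t : Spec K ⟶ Z) {D₁ D₂ : Z.Opens} (hle : D₁ ≤ D₂)
    (h : t (IsLocalRing.closedPoint K) ∈ D₁) :
    Z.presheaf.map (homOfLE hle).op ≫ evAt t D₁ h = evAt t D₂ (hle h) := by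
  unfold evAt
  rw [← Category.assoc, Z.presheaf.germ_res]

theorem evAt_appLE (t : Spec K ⟶ Z) (g : Z ⟶ Z') (D' : Z'.Opens) (D : Z.Opens) (e : D ≤ g ⁻¹ᵁ D')
    (h : t (IsLocalRing.closedPoint K) ∈ D) :
    g.appLE D' D e ≫ evAt t D h = evAt (t ≫ g) D' (e h) := by
  rw [evAt_comp t g D' (e h), Scheme.Hom.appLE, Category.assoc, evAt_res]

theorem evAt_congr {t t' : Spec K ⟶ Z} (e : t = t') (D : Z.Opens)
    (h : t (IsLocalRing.closedPoint K) ∈ D) :
    evAt t D h = evAt t' D (e ▸ h) := by
  subst e; rfl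

end Groth.Agent.H20.Birat

namespace Groth.Agent.H20.Birat

variable {Z : Scheme.{u}} {K : CommRingCat.{u}} [IsLocalRing K]

theorem evAt_injective_of_generic [IsIntegral Z] (t : Spec K ⟶ Z)
    (ht : t (IsLocalRing.closedPoint K) = genericPoint Z) (D : Z.Opens)
    (h : t (IsLocalRing.closedPoint K) ∈ D) : Function.Injective (evAt t D h).hom := by
  rw [injective_iff_map_eq_zero]
  intro s hs
  have h1 : ¬ IsUnit ((Z.presheaf.germ D _ h).hom s) := by
    intro hu
    have h2 : IsUnit ((evAt t D h).hom s) := by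
      unfold evAt
      rw [CommRingCat.hom_comp, RingHom.comp_apply]
      exact hu.map _
    rw [hs] at h2
    exact not_isUnit_zero h2
  have h3 : t (IsLocalRing.closedPoint K) ∉ Z.basicOpen s := by
    intro hmem
    exact h1 ((Z.mem_basicOpen s _ h).mp hmem)
  have h4 : Z.basicOpen s = ⊥ := by
    by_contra hne
    apply h3
    rw [ht]
    have hne' : (Z.basicOpen s : Set Z).Nonempty := by
      rw [Set.nonempty_iff_ne_empty]
      intro he
      apply hne
      ext x
      simp [he]
    exact ((genericPoint_spec Z).mem_open_set_iff (Z.basicOpen s).2).mpr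
      (by simpa [Set.inter_comm] using hne')
  exact (AlgebraicGeometry.basicOpen_eq_bot_iff s).mp h4

end Groth.Agent.H20.Birat
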