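import Groth.Agent.H20.RelProj.PsiChart
import Groth.Agent.H97.ProjProper

/-!
# The graph embedding `X ⟶ P^a_Y` of a morphism of projective schemes (helper20)
-/

set_option autoImplicit false
set_option backward.isDefEq.respectTransparency false
set_option linter.style.haveILetI false
universe u

open CategoryTheory CategoryTheory.Limits AlgebraicGeometry TopologicalSpace Opposite

namespace Groth.Agent.H20.Birat

open Groth.Agent.H20.RelProj Groth.Agent.H97.ProjChart Groth.Agent.H48

attribute [local instance low] ulZAlgebra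

/-- a morphism `f : X ⟶ Y` over `Spec k`, with `X ⊆ P^a_k` closed and `Y` separated over `k`, factors through
a closed immersion `X ⟶ P^a_Y` -/
theorem exists_graph_embedding (k : Type u) [CommRing k] {X Y : Scheme.{u}} (a : ℕ)
    (iX : X ⟶ CohB1.ProjSpace a k) [IsClosedImmersion iX] (g : Y ⟶ Spec (CommRingCat.of k))
    [IsSeparated g] (f : X ⟶ Y) (hk : f ≫ g = iX ≫ CohB1.ProjSpace.toSpec a k) :
    ∃ i : X ⟶ CohB1.ProjSpaceOver a Y, IsClosedImmersion i ∧
      i ≫ CohB1.ProjSpaceOver.toBase a Y = f := by
  have hcond : (iX ≫ projMap (ULift.{u} ℤ) k a) ≫ CohB1.ProjSpace.toSpec a (ULift.{u} ℤ) =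
      f ≫ specULiftZIsTerminal.from Y := specULiftZIsTerminal.hom_ext _ _
  let i : X ⟶ CohB1.ProjSpaceOver a Y := pullback.lift (iX ≫ projMap (ULift.{u} ℤ) k a) f hcond
  have hi1 : i ≫ fstP a Y = iX ≫ projMap (ULift.{u} ℤ) k a := pullback.lift_fst _ _ _
  have hi2 : i ≫ CohB1.ProjSpaceOver.toBase a Y = f := pullback.lift_snd _ _ _
  refine ⟨i, ?_, hi2⟩
  have hP := isPullback_projSpaceOverMap a g
  have hsep : IsSeparated (projSpaceOverMap a g) :=
    MorphismProperty.of_isPullback hP.flip inferInstance
  have hcomp : i ≫ projSpaceOverMap a g = iX ≫ (projSpaceOverIso k a).inv := by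
    apply hom_ext_projSpaceOver
    · have h1 : projSpaceOverMap a g ≫ fstP a (Spec (CommRingCat.of k)) = fstP a Y :=
        pullback.lift_fst _ _ _
      rw [Category.assoc, h1, hi1, Category.assoc]
      congr 1
      exact (projSpaceOverIso_inv_fst k a).symm
    · rw [Category.assoc, hP.w, reassoc_of% hi2, hk, Category.assoc, projSpaceOverIso_inv_toBase]
  have : IsClosedImmersion (i ≫ projSpaceOverMap a g) := by
    rw [hcomp]
    infer_instance
  exact IsClosedImmersion.of_comp i (projSpaceOverMap a g)

end Groth.Agent.H20.Birat
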