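import Groth.Agent.H20.Birat.EvPt

/-!
# The point `Spec κ(x) ⟶ X`, evaluation of sections, and common denominators (helper20)
-/

set_option autoImplicit false
set_option backward.isDefEq.respectTransparency false
universe u

open CategoryTheory AlgebraicGeometry TopologicalSpace Opposite

namespace Groth.Agent.H20.Birat

variable {X Y : Scheme.{u}}

theorem evAt_fromSpecResidueField (x : X) (U : X.Opens)
    (h : X.fromSpecResidueField x (IsLocalRing.closedPoint (X.residueField x)) ∈ U)
    (h' : x ∈ U) :
    evAt (X.fromSpecResidueField x) U h = X.presheaf.germ U x h' ≫ X.residue x := by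
  unfold evAt
  haveI : IsLocalHom (X.residue x).hom := by
    change IsLocalHom (IsLocalRing.residue _)
    infer_instance
  exact Scheme.germ_stalkClosedPointTo_Spec_fromSpecStalk (X.residue x) U h

theorem evAt_fromSpecResidueField_comp (f : X ⟶ Y) (x : X) (V : Y.Opens)
    (h : (X.fromSpecResidueField x ≫ f) (IsLocalRing.closedPoint (X.residueField x)) ∈ V)
    (h' : f x ∈ V) :
    evAt (X.fromSpecResidueField x ≫ f) V h =
      Y.presheaf.germ V (f x) h' ≫ Y.residue (f x) ≫ f.residueFieldMap x := by
  rw [evAt_comp, evAt_fromSpecResidueField x (f ⁻¹ᵁ V) h h', Scheme.residue_residueFieldMap,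
    Scheme.Hom.germ_stalkMap_assoc]

/-- finitely many elements of the residue field at a point of an affine open are fractions of sections
with a common denominator -/
theorem exists_common_denominator {V : Y.Opens} (hV : IsAffineOpen V) (y : Y) (hy : y ∈ V)
    {ι : Type} [Finite ι] (z : ι → Y.residueField y) :
    ∃ (q : Γ(Y, V)) (p : ι → Γ(Y, V)),
      IsUnit ((Y.presheaf.germ V y hy ≫ Y.residue y).hom q) ∧
      ∀ l, (Y.presheaf.germ V y hy ≫ Y.residue y).hom q * z l =
        (Y.presheaf.germ V y hy ≫ Y.residue y).hom (p l) := by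
  letI := Y.presheaf.algebra_section_stalk ⟨y, hy⟩
  have hloc : IsLocalization.AtPrime (Y.presheaf.stalk y) (hV.primeIdealOf ⟨y, hy⟩).asIdeal :=
    hV.isLocalization_stalk ⟨y, hy⟩
  choose zh hzh using fun l => Y.residue_surjective y (z l)
  obtain ⟨b, hb⟩ := IsLocalization.exist_integer_multiples_of_finite
    (hV.primeIdealOf ⟨y, hy⟩).asIdeal.primeCompl zh
  choose p hp using hb
  have halg : ∀ s : Γ(Y, V), algebraMap Γ(Y, V) (Y.presheaf.stalk y) s =
      (Y.presheaf.germ V y hy).hom s := fun s => rfl
  refine ⟨b.1, p, ?_, ?_⟩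
  · rw [CommRingCat.hom_comp, RingHom.comp_apply]
    have hu : IsUnit (algebraMap Γ(Y, V) (Y.presheaf.stalk y) b.1) :=
      IsLocalization.map_units (Y.presheaf.stalk y) b
    rw [halg] at hu
    exact hu.map _
  · intro l
    rw [CommRingCat.hom_comp, RingHom.comp_apply, RingHom.comp_apply, ← halg, ← halg, hp l,
      Algebra.smul_def, map_mul, hzh]

end Groth.Agent.H20.Birat
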