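import Groth.Agent.H20.Birat.Twist
import Groth.Agent.H20.Birat.ResPt
import Groth.Agent.H20.Birat.Graph
import Groth.Agent.Lead.Coh.ProjSpaceCover

/-!
# A birational morphism of integral projective schemes over a field is a blow-up (helper20)
-/

set_option autoImplicit false
set_option backward.isDefEq.respectTransparency false
set_option linter.style.haveILetI false
universe u

open CategoryTheory CategoryTheory.Limits AlgebraicGeometry TopologicalSpace Opposite
open HomogeneousLocalization
open scoped HomogeneousIdeal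

namespace Groth.Agent.H20.Birat

open Groth.Agent.H20.RelProj Groth.Agent.H97.ProjChart Groth.Agent.H18 Groth.Agent.H8.ProjSec
  Groth.Agent.H18.PUP

theorem exists_stdChart (n : ℕ) (R : Type u) [CommRing R] (x : Proj (CohB1.polyGrading n R)) :
    ∃ j : Fin (n + 1), x ∈ Proj.basicOpen (CohB1.polyGrading n R) (MvPolynomial.X j) := by
  have h1 := Groth.Agent.Lead.Coh.iSup_stdOpen n R
  have h2 : x ∈ (⊤ : (CohB1.ProjSpace n R).Opens) := trivial
  rw [← h1, Opens.mem_iSup] at h2
  exact h2

theorem birational_projective_isBlowUp (k : Type u) [Field k] {X Y : Scheme.{u}} [IsIntegral X]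
    [IsIntegral Y] (a b : ℕ) (iX : X ⟶ CohB1.ProjSpace a k) [IsClosedImmersion iX]
    (iY : Y ⟶ CohB1.ProjSpace b k) [IsClosedImmersion iY] (f : X ⟶ Y)
    (hk : f ≫ iY ≫ CohB1.ProjSpace.toSpec b k = iX ≫ CohB1.ProjSpace.toSpec a k)
    (hgen : f (genericPoint X) = genericPoint Y)
    (hsurj : Function.Surjective (f.residueFieldMap (genericPoint X)).hom) :
    ∃ I : Y.IdealSheafData, BlowUp.IsBlowUp f I := by
  -- the graph embedding
  obtain ⟨i, hicl, hif⟩ := exists_graph_embedding k a iX (iY ≫ CohB1.ProjSpace.toSpec b k) f hk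
  -- the generic point
  let t : Spec (X.residueField (genericPoint X)) ⟶ X := X.fromSpecResidueField (genericPoint X)
  have ht : t (IsLocalRing.closedPoint (X.residueField (genericPoint X))) = genericPoint X :=
    X.fromSpecResidueField_apply _ _
  have hdom : (i ≫ CohB1.ProjSpaceOver.toBase a Y) (genericPoint X) = genericPoint Y := by
    rw [hif]; exact hgen
  -- a chart of `P^a`
  obtain ⟨l₀, h₀⟩ : ∃ l₀, InChart i t l₀ := exists_stdChart a (ULift.{u} ℤ) _
  -- a chart of `P^b`
  let iY' : Y ⟶ Proj (CohB1.polyGrading b k) := iY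
  haveI : IsClosedImmersion iY' := ‹IsClosedImmersion iY›
  obtain ⟨j₀, hm₀⟩ := exists_stdChart b k (((t ≫ i ≫ CohB1.ProjSpaceOver.toBase a Y) ≫ iY')
    (IsLocalRing.closedPoint (X.residueField (genericPoint X))))
  have hD₀ : IsAffineOpen (Proj.basicOpen (CohB1.polyGrading b k) (MvPolynomial.X j₀)) :=
    Proj.isAffineOpen_basicOpen _ _ (X_mem k b j₀) one_pos
  have hV₀ : IsAffineOpen (iY' ⁻¹ᵁ Proj.basicOpen (CohB1.polyGrading b k) (MvPolynomial.X j₀)) :=
    hD₀.preimage iY'
  have hy₀ : f (genericPoint X) ∈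
      iY' ⁻¹ᵁ Proj.basicOpen (CohB1.polyGrading b k) (MvPolynomial.X j₀) := by
    have h1 : (t ≫ i ≫ CohB1.ProjSpaceOver.toBase a Y)
        (IsLocalRing.closedPoint (X.residueField (genericPoint X))) = f (genericPoint X) := by
      rw [hif, Scheme.Hom.comp_apply, ht]
    rw [← h1]
    exact hm₀
  -- the coordinates of the generic point come from the function field of `Y`
  choose z hz using fun l => hsurj (uu i t l₀ l)
  obtain ⟨q, p, hq, hp⟩ := exists_common_denominator hV₀ (f (genericPoint X)) hy₀ z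
  choose s hs using fun l => iY'.app_surjective _ hD₀ (p l)
  obtain ⟨N, G, hG, hGs⟩ := exists_common_degree (CohB1.polyGrading b k) (X_mem k b j₀) s
  have hE : evAt (t ≫ i ≫ CohB1.ProjSpaceOver.toBase a Y) _ hm₀ =
      Y.presheaf.germ _ (f (genericPoint X)) hy₀ ≫ Y.residue (f (genericPoint X)) ≫
        f.residueFieldMap (genericPoint X) := by
    have e : t ≫ i ≫ CohB1.ProjSpaceOver.toBase a Y = X.fromSpecResidueField (genericPoint X) ≫ f := by
      rw [hif]
    rw [evAt_congr e]
    exact evAt_fromSpecResidueField_comp f (genericPoint X) _ _ hy₀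
  have hcov : ∀ y : Y, ∃ g ∈ CohB1.polyGrading b k 1,
      iY' y ∈ Proj.basicOpen (CohB1.polyGrading b k) g := by
    intro y
    obtain ⟨j, hj⟩ := exists_stdChart b k (iY' y)
    exact ⟨_, X_mem k b j, hj⟩
  have key := isBlowUp_of_forms i t ht hdom (CohB1.polyGrading b k) iY' h₀ hcov (X_mem k b j₀) hm₀
    G hG ((f.residueFieldMap (genericPoint X)).hom
      ((Y.presheaf.germ _ (f (genericPoint X)) hy₀ ≫ Y.residue (f (genericPoint X))).hom q))
    (hq.map _) ?_
  · rw [hif] at key
    exact ⟨_, key⟩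
  · intro l
    have h1 := evAt_comp (t ≫ i ≫ CohB1.ProjSpaceOver.toBase a Y) iY'
      (Proj.basicOpen (CohB1.polyGrading b k) (MvPolynomial.X j₀)) hm₀
    have h2 := congr($h1 (sec (CohB1.polyGrading b k) (X_mem k b j₀) (G l)))
    rw [CommRingCat.comp_apply] at h2
    refine h2.trans ?_
    rw [hGs l, hs l, hE, ← hz l, ← map_mul, hp l]
    rfl

end Groth.Agent.H20.Birat
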