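import Groth.Agent.H18.ProjClosed
import Groth.Agent.H18.PUP.Dehom
import Groth.Agent.H8.ProjSec

/-!
# The ideal sheaf on `Proj 𝒜` of a homogeneous ideal, and its sections on standard charts (helper20)
-/

set_option autoImplicit false
set_option linter.style.haveILetI false
universe u

open AlgebraicGeometry CategoryTheory HomogeneousLocalization
open scoped HomogeneousIdeal

namespace Groth.Agent.H20.Birat

open Groth.Agent.H18 Groth.Agent.H18.PUP Groth.Agent.H8.ProjSec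

variable {R A : Type u} [CommRing R] [CommRing A] [Algebra R A]
variable (𝒜 : ℕ → Submodule R A) [GradedAlgebra 𝒜] (𝔞 : Ideal A) (h𝔞 : 𝔞.IsHomogeneous 𝒜)

theorem dehom_self {f : A} (hf : f ∈ 𝒜 1) : dehom 𝒜 hf f = 1 := by
  rw [dehom_apply 𝒜 hf hf]
  apply HomogeneousLocalization.val_injective
  rw [Away.val_mk, HomogeneousLocalization.val_one]
  have h := Localization.mk_self (⟨f ^ 1, 1, rfl⟩ : Submonoid.powers f)
  simpa only [pow_one] using h

/-- the kernel of the map of charts induced by the quotient map is the dehomogenised ideal -/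
theorem ker_awayMap_quot {f : A} (hf : f ∈ 𝒜 1) :
    letI := quotGradedAlgebra 𝒜 h𝔞
    RingHom.ker (Away.map (quotGradedHom 𝒜 h𝔞) f) = 𝔞.map (dehom 𝒜 hf) := by
  letI := quotGradedAlgebra 𝒜 h𝔞
  apply le_antisymm
  · intro z hz
    obtain ⟨k, a, ha, rfl⟩ := Away.mk_surjective 𝒜 hf z
    rw [RingHom.mem_ker, awayMap_quot_eq_zero_iff 𝒜 h𝔞 hf k a ha] at hz
    obtain ⟨m, hm⟩ := hz
    have ha' : a ∈ 𝒜 k := by rwa [smul_eq_mul, mul_one] at ha
    have h1 : dehom 𝒜 hf (f ^ m * a) = Away.mk 𝒜 hf k a ha := by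
      rw [map_mul, map_pow, dehom_self, one_pow, one_mul, dehom_apply 𝒜 hf ha']
    rw [← h1]
    exact Ideal.mem_map_of_mem _ hm
  · rw [Ideal.map_le_iff_le_comap]
    intro a ha
    rw [Ideal.mem_comap, RingHom.mem_ker]
    -- reduce to homogeneous components
    classical
    rw [← DirectSum.sum_support_decompose 𝒜 a, map_sum, map_sum]
    refine Finset.sum_eq_zero fun d _ => ?_
    have hd : (DirectSum.decompose 𝒜 a d : A) ∈ 𝒜 d := Subtype.prop _
    rw [dehom_apply 𝒜 hf hd, awayMap_quot_eq_zero_iff 𝒜 h𝔞 hf d _ (mem_smul_one 𝒜 hd)]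
    exact ⟨0, by rw [pow_zero, one_mul]; exact h𝔞 d ha⟩

/-- the ideal sheaf on `Proj 𝒜` attached to a homogeneous ideal -/
noncomputable def homIdealSheaf : (Proj 𝒜).IdealSheafData :=
  letI := quotGradedAlgebra 𝒜 h𝔞
  (Proj.map (quotGradedHom 𝒜 h𝔞)
    (irrelevant_le_map_of_surjective _ (quotGradedHom_surjective 𝒜 h𝔞))).ker

theorem homIdealSheaf_ideal {f : A} (hf : f ∈ 𝒜 1) :
    (homIdealSheaf 𝒜 𝔞 h𝔞).ideal (dplus 𝒜 hf) = 𝔞.map (sec 𝒜 hf) := by
  letI := quotGradedAlgebra 𝒜 h𝔞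
  have hφ := irrelevant_le_map_of_surjective (quotGradedHom 𝒜 h𝔞) (quotGradedHom_surjective 𝒜 h𝔞)
  haveI : IsClosedImmersion (Proj.map (quotGradedHom 𝒜 h𝔞) hφ) :=
    Groth.Agent.S3563.result 𝒜 _ _ (quotGradedHom_surjective 𝒜 h𝔞) hφ
  have hbij := awayToSection_bijective 𝒜 hf one_pos
  apply Ideal.comap_injective_of_surjective _ hbij.2
  unfold homIdealSheaf
  rw [Scheme.Hom.ker_apply]
  have h1 := comap_ker_projMap_app 𝒜 (quotGradedHom 𝒜 h𝔞) hφ hf one_pos
  refine h1.trans ?_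
  rw [ker_awayMap_quot 𝒜 𝔞 h𝔞 hf]
  unfold sec
  rw [← Ideal.map_map, Ideal.comap_map_of_bijective _ hbij]

end Groth.Agent.H20.Birat
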