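import Groth.Agent.H20.Birat.Core
import Groth.Agent.H20.Birat.HomIdeal
import Groth.Agent.H19.ComapAff

/-!
# Globalising the coordinates of the generic point by forms of a fixed degree (helper20)

If the base `X` sits in `Proj 𝒜`, and the coordinates of the generic point of `X' ⊆ P^n_X` are given on one
standard chart by `sec g₀ (G l)` for forms `G l` of a common degree `N`, then `X'` is the blow-up of the
ideal sheaf generated by the `G l`.
-/

set_option autoImplicit false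
set_option backward.isDefEq.respectTransparency false
set_option linter.style.haveILetI false
universe u

open CategoryTheory CategoryTheory.Limits AlgebraicGeometry TopologicalSpace Opposite
open HomogeneousLocalization
open scoped HomogeneousIdeal

namespace Groth.Agent.H20.Birat

open Groth.Agent.H18 Groth.Agent.H8.ProjSec Groth.Agent.H18.PUP

section point

variable {R A : Type u} [CommRing R] [CommRing A] [Algebra R A]
variable (𝒜 : ℕ → Submodule R A) [GradedAlgebra 𝒜]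
variable {K : CommRingCat.{u}} [IsLocalRing K] (σ : Spec K ⟶ Proj 𝒜)

/-- change of chart for the values at a point -/
theorem ev_sec_change {g g₀ : A} (hg : g ∈ 𝒜 1) (hg₀ : g₀ ∈ 𝒜 1)
    (h : σ (IsLocalRing.closedPoint K) ∈ Proj.basicOpen 𝒜 g)
    (h₀ : σ (IsLocalRing.closedPoint K) ∈ Proj.basicOpen 𝒜 g₀) {N : ℕ} {a : A} (ha : a ∈ 𝒜 N) :
    (evAt σ _ h).hom (sec 𝒜 hg a) =
      (evAt σ _ h).hom (sec 𝒜 hg g₀) ^ N * (evAt σ _ h₀).hom (sec 𝒜 hg₀ a) := by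
  have hmem : σ (IsLocalRing.closedPoint K) ∈ Proj.basicOpen 𝒜 (g₀ * g) := by
    rw [Proj.basicOpen_mul]
    exact ⟨h₀, h⟩
  have h1 := res_sec_eq 𝒜 hg₀ hg ha
  have h2 := congrArg (evAt σ _ hmem).hom h1
  rw [map_mul, map_pow] at h2
  have key : ∀ {D : (Proj 𝒜).Opens} (hle : Proj.basicOpen 𝒜 (g₀ * g) ≤ D) (s : Γ(Proj 𝒜, D)),
      (evAt σ _ hmem).hom (((Proj 𝒜).presheaf.map (homOfLE hle).op).hom s) =
        (evAt σ D (hle hmem)).hom s := by
    intro D hle s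
    have := evAt_res σ hle hmem
    exact congr($this s)
  rw [key, key, key] at h2
  exact h2

theorem ev_sec_isUnit {g g₀ : A} (hg : g ∈ 𝒜 1) (hg₀ : g₀ ∈ 𝒜 1)
    (h : σ (IsLocalRing.closedPoint K) ∈ Proj.basicOpen 𝒜 g)
    (h₀ : σ (IsLocalRing.closedPoint K) ∈ Proj.basicOpen 𝒜 g₀) :
    IsUnit ((evAt σ _ h).hom (sec 𝒜 hg g₀)) := by
  have h1 := ev_sec_change 𝒜 σ hg hg₀ h h₀ hg
  rw [sec_self, map_one, pow_one] at h1
  exact IsUnit.of_mul_eq_one _ h1.symm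

end point

section homog

variable {R A : Type u} [CommRing R] [CommRing A] [Algebra R A]
variable (𝒜 : ℕ → Submodule R A) [GradedAlgebra 𝒜]

theorem exists_homogeneous_sec {g : A} (hg : g ∈ 𝒜 1) (s : Γ(Proj 𝒜, Proj.basicOpen 𝒜 g)) :
    ∃ (k : ℕ) (a : A), a ∈ 𝒜 k ∧ sec 𝒜 hg a = s := by
  have h1 : Function.Surjective (Proj.awayToSection 𝒜 g).hom := by
    have : IsIso (Proj.awayToSection 𝒜 g) :=
      (Proj.basicOpenIsoAway 𝒜 g hg Nat.one_pos).isIso_hom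
    exact (ConcreteCategory.bijective_of_isIso (Proj.awayToSection 𝒜 g)).2
  obtain ⟨z, rfl⟩ := h1 s
  obtain ⟨k, a, ha, rfl⟩ := Away.mk_surjective 𝒜 hg z
  have ha' : a ∈ 𝒜 k := by rwa [smul_eq_mul, mul_one] at ha
  refine ⟨k, a, ha', ?_⟩
  unfold sec
  rw [RingHom.comp_apply, dehom_apply 𝒜 hg ha']

/-- finitely many sections over a standard chart are the dehomogenisations of forms of one degree -/
theorem exists_common_degree {ι : Type} [Fintype ι] {g : A} (hg : g ∈ 𝒜 1)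
    (s : ι → Γ(Proj 𝒜, Proj.basicOpen 𝒜 g)) :
    ∃ (N : ℕ) (G : ι → A), (∀ l, G l ∈ 𝒜 N) ∧ ∀ l, sec 𝒜 hg (G l) = s l := by
  choose k a ha hs using fun l => exists_homogeneous_sec 𝒜 hg (s l)
  refine ⟨∑ l, k l, fun l => g ^ (∑ l, k l - k l) * a l, ?_, ?_⟩
  · intro l
    have hle : k l ≤ ∑ l, k l := Finset.single_le_sum (fun _ _ => Nat.zero_le _) (Finset.mem_univ l)
    have h1 : g ^ (∑ l, k l - k l) ∈ 𝒜 (∑ l, k l - k l) := by
      have := SetLike.pow_mem_graded (∑ l, k l - k l) hg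
      rwa [smul_eq_mul, mul_one] at this
    have h2 := SetLike.mul_mem_graded h1 (ha l)
    rwa [Nat.sub_add_cancel hle] at h2
  · intro l
    rw [map_mul, map_pow, sec_self, one_pow, one_mul, hs]

end homog

section main

variable {X' X : Scheme.{u}} [IsIntegral X'] [IsIntegral X] {n : ℕ}
  (i : X' ⟶ CohB1.ProjSpaceOver n X) [IsClosedImmersion i]
  {K : CommRingCat.{u}} [IsLocalRing K] (t : Spec K ⟶ X')
  (ht : t (IsLocalRing.closedPoint K) = genericPoint X')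
  (hdom : (i ≫ CohB1.ProjSpaceOver.toBase n X) (genericPoint X') = genericPoint X)
variable {R A : Type u} [CommRing R] [CommRing A] [Algebra R A]
  (𝒜 : ℕ → Submodule R A) [GradedAlgebra 𝒜] (ι : X ⟶ Proj 𝒜) [IsAffineHom ι]

theorem homogeneous_span_range {N : ℕ} {m : ℕ} (G : Fin m → A) (hG : ∀ l, G l ∈ 𝒜 N) :
    (Ideal.span (Set.range G)).IsHomogeneous 𝒜 := by
  apply Ideal.homogeneous_span
  rintro _ ⟨l, rfl⟩
  exact ⟨N, hG l⟩

include ht hdom in
/-- if the coordinates of the generic point are, on one chart of the base, the dehomogenisations of forms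
`G l` of a common degree, then `X'` is the blow-up of the ideal sheaf generated by these forms -/
theorem isBlowUp_of_forms {l₀ : Fin (n + 1)} (h₀ : InChart i t l₀)
    (hcov : ∀ x : X, ∃ g ∈ 𝒜 1, ι x ∈ Proj.basicOpen 𝒜 g)
    {g₀ : A} (hg₀ : g₀ ∈ 𝒜 1)
    (hm₀ : ((t ≫ i ≫ CohB1.ProjSpaceOver.toBase n X) ≫ ι) (IsLocalRing.closedPoint K) ∈
      Proj.basicOpen 𝒜 g₀)
    {N : ℕ} (G : Fin (n + 1) → A) (hG : ∀ l, G l ∈ 𝒜 N) (r₀ : K) (hr₀ : IsUnit r₀)
    (hval : ∀ l, (evAt ((t ≫ i ≫ CohB1.ProjSpaceOver.toBase n X) ≫ ι) _ hm₀).hom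
      (sec 𝒜 hg₀ (G l)) = r₀ * uu i t l₀ l) :
    BlowUp.IsBlowUp (i ≫ CohB1.ProjSpaceOver.toBase n X)
      ((homIdealSheaf 𝒜 (Ideal.span (Set.range G)) (homogeneous_span_range 𝒜 G hG)).comap ι) := by
  apply isBlowUp_of_generic_coordinates i t ht hdom h₀
  intro x
  obtain ⟨g, hg, hx⟩ := hcov x
  have hV : IsAffineOpen (ι ⁻¹ᵁ Proj.basicOpen 𝒜 g) :=
    (Proj.isAffineOpen_basicOpen 𝒜 g hg one_pos).preimage ι
  have hm : ((t ≫ i ≫ CohB1.ProjSpaceOver.toBase n X) ≫ ι) (IsLocalRing.closedPoint K) ∈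
      Proj.basicOpen 𝒜 g :=
    generic_mem i t ht hdom (V := ι ⁻¹ᵁ Proj.basicOpen 𝒜 g) hx
  set σ := (t ≫ i ≫ CohB1.ProjSpaceOver.toBase n X) ≫ ι with hσ
  have hw := ev_sec_isUnit 𝒜 σ hg hg₀ hm hm₀
  refine ⟨⟨ι ⁻¹ᵁ Proj.basicOpen 𝒜 g, hV⟩, hx, fun l => (ι.app _).hom (sec 𝒜 hg (G l)),
    (evAt σ _ hm).hom (sec 𝒜 hg g₀) ^ N * r₀, (hw.pow N).mul hr₀, ?_, ?_⟩
  · intro l
    have h1 := evAt_comp (t ≫ i ≫ CohB1.ProjSpaceOver.toBase n X) ι (Proj.basicOpen 𝒜 g) hm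
    have h2 := congr($h1 (sec 𝒜 hg (G l)))
    rw [CommRingCat.comp_apply] at h2
    refine h2.symm.trans ?_
    rw [ev_sec_change 𝒜 σ hg hg₀ hm hm₀ (hG l), hval l, mul_assoc]
  · have hI : ((homIdealSheaf 𝒜 (Ideal.span (Set.range G)) (homogeneous_span_range 𝒜 G hG)).comap
        ι).ideal ⟨ι ⁻¹ᵁ Proj.basicOpen 𝒜 g, hV⟩ =
        Ideal.span (Set.range fun l => (ι.app (Proj.basicOpen 𝒜 g)).hom (sec 𝒜 hg (G l))) := by
      have h1 := Groth.Agent.H19.ComapAff.ideal_comap_appLE ι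
        (homIdealSheaf 𝒜 (Ideal.span (Set.range G)) (homogeneous_span_range 𝒜 G hG)) (dplus 𝒜 hg)
        ⟨ι ⁻¹ᵁ Proj.basicOpen 𝒜 g, hV⟩ le_rfl
      rw [← Scheme.Hom.app_eq_appLE] at h1
      rw [h1, homIdealSheaf_ideal, Ideal.map_span, Ideal.map_span, ← Set.range_comp,
        ← Set.range_comp]
      rfl
    constructor
    · intro l
      change _ ∈ ((homIdealSheaf 𝒜 (Ideal.span (Set.range G))
        (homogeneous_span_range 𝒜 G hG)).comap ι).ideal ⟨ι ⁻¹ᵁ Proj.basicOpen 𝒜 g, hV⟩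
      rw [hI]
      exact Ideal.subset_span ⟨l, rfl⟩
    · exact le_of_eq hI

end main

end Groth.Agent.H20.Birat
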